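import Mathlib
import Cfsg.Agent.H113.Inv.Adj
import Cfsg.Agent.H864.Ore.GlComm

/-!
# Factorizations `P Z = Y` with prescribed characteristic polynomials (S4171, helper113)
-/

set_option autoImplicit false
set_option linter.unusedSectionVars false

namespace Cfsg.Agent.H113.Inv

open Module Polynomial Cfsg.Agent.H951 Matrix Cfsg.Agent.H98.Ore Cfsg.Agent.H166.Cov Cfsg.Agent.H864.Ore

universe u

section

variable {F : Type u} [Field F] {V : Type u} [AddCommGroup V] [Module F V]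

theorem pencil [Finite F] (hF : 4 ≤ Nat.card F) [FiniteDimensional F V] {P : End F V} (hP0 : LinearMap.det P ≠ 0)
    {x : F} {p : F[X]} (hp : LinearMap.charpoly P = (X - C x) * p) (hx : p.eval x ≠ 0) {f g : F[X]}
    (hfm : f.Monic) (hfd : f.natDegree = finrank F V) (hgm : g.Monic) (hgd : g.natDegree = finrank F V)
    (hf0 : f.coeff 0 ≠ 0) (hfg : g.coeff 0 = LinearMap.det P * f.coeff 0) :
    ∃ Z : End F V, LinearMap.charpoly Z = f ∧ LinearMap.charpoly (P * Z) = g ∧ Coc Z ∧ Coc (P * Z) := by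
  obtain ⟨φ, u, hu, hφ⟩ := exists_dual (T := P) (x := x) (by rw [hp]; simp)
  have hPH : ∀ v ∈ LinearMap.ker φ, P v ∈ LinearMap.ker φ := by
    intro v hv
    rw [LinearMap.mem_ker] at hv ⊢
    rw [hφ, hv, mul_zero]
  set PH := P.restrict hPH with hPHdef
  have hPHc : ∀ h : LinearMap.ker φ, ((PH h : LinearMap.ker φ) : V) = P h := fun h => rfl
  have hPu : φ (P u) = x := by rw [hφ, hu, mul_one]
  have hcp : LinearMap.charpoly PH = p := by
    have h1 := split_charpoly hu hPH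
    rw [hp, hPu, mul_comm] at h1
    exact (mul_right_cancel₀ (X_sub_C_ne_zero x) h1).symm
  have hPd : LinearMap.det PH * x = LinearMap.det P := by
    have h1 := split_det hu hPH
    rw [hPu] at h1
    exact h1.symm
  have hPH0 : LinearMap.det PH ≠ 0 := fun h => hP0 (by rw [← hPd, h, zero_mul])
  let e : LinearMap.ker φ ≃ₗ[F] LinearMap.ker φ := LinearMap.equivOfDetNeZero PH hPH0
  have he : ∀ h, e h = PH h := fun h => rfl
  have hes : ∀ h, PH (e.symm h) = h := fun h => by rw [← he, e.apply_symm_apply]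
  have hHd : finrank F V = finrank F (LinearMap.ker φ) + 1 := by
    have h1 := (crd φ u hu).finrank_eq
    rw [finrank_prod, finrank_self] at h1
    exact h1
  let a : LinearMap.ker φ →ₗ[F] V := (LinearMap.ker φ).subtype
  let b : LinearMap.ker φ →ₗ[F] V := a ∘ₗ (e.symm : LinearMap.ker φ →ₗ[F] LinearMap.ker φ)
  have ha : Function.Injective a := Subtype.val_injective
  have hb : Function.Injective b := ha.comp e.symm.injective
  obtain ⟨D, hD1, hD2⟩ := exists_pencil hF hHd a b ha hb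
  have hφa : ∀ v, φ v = 0 ↔ ∃ w, a w = v := fun v => ⟨fun h => ⟨⟨v, h⟩, rfl⟩, by
    rintro ⟨w, rfl⟩
    exact w.2⟩
  have hD2' : ∀ S : Submodule F (LinearMap.ker φ), (∀ x ∈ S, ∃ y ∈ S, (D ∘ₗ PH) x = a y) → S = ⊥ := by
    intro S hS
    have h1 := hD2 (S.map PH) (by
      rintro _ ⟨w, hw, rfl⟩
      obtain ⟨y, hy, h⟩ := hS w hw
      refine ⟨PH y, ⟨y, hy, rfl⟩, ?_⟩
      rw [LinearMap.comp_apply] at h
      rw [h]
      show a y = a (e.symm (PH y))
      rw [← he, e.symm_apply_apply])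
    rw [Submodule.eq_bot_iff]
    intro w hw
    have h2 : PH w ∈ S.map PH := ⟨w, hw, rfl⟩
    rw [h1, Submodule.mem_bot, ← he] at h2
    exact (LinearEquiv.map_eq_zero_iff e).1 h2
  obtain ⟨Z, hZ1, hZ2, hZ3⟩ := exists_extend ha hφa hD1 hfm hfd
  obtain ⟨Y, hY1, hY2, hY3⟩ := exists_extend ha hφa hD2' hgm hgd
  have hdZY : LinearMap.det Y = LinearMap.det Z * LinearMap.det P := by
    rw [det_eq_charpoly, det_eq_charpoly Z, hZ3, hY3, hfg]
    ring
  have hZ0 : LinearMap.det Z ≠ 0 := by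
    rw [det_eq_charpoly, hZ3]
    exact mul_ne_zero (by simp) hf0
  obtain ⟨Z', hZZ', hZ'Z⟩ := exists_inv hZ0
  -- `Q = Z⁻¹ Y`
  set Q := Z' * Y with hQ
  have hZQ : Z * Q = Y := by rw [hQ, ← mul_assoc, hZZ', one_mul]
  have hQH : ∀ v ∈ LinearMap.ker φ, Q v = P v := by
    intro v hv
    have h1 : Y v = D (PH ⟨v, hv⟩) := hY1 ⟨v, hv⟩
    have h2 : Z (P v) = D (PH ⟨v, hv⟩) := hZ1 (PH ⟨v, hv⟩)
    rw [hQ, Module.End.mul_apply, h1, ← h2, ← Module.End.mul_apply, hZ'Z, Module.End.one_apply]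
  have hQH' : ∀ v ∈ LinearMap.ker φ, Q v ∈ LinearMap.ker φ := by
    intro v hv
    rw [hQH v hv]
    exact hPH v hv
  have hQd : LinearMap.det Q = LinearMap.det P := by
    have h1 : LinearMap.det Z * LinearMap.det Q = LinearMap.det Z * LinearMap.det P := by
      rw [← map_mul, hZQ, hdZY]
    exact mul_left_cancel₀ hZ0 h1
  have hQu : φ (Q u) = x := by
    have h1 := split_det hu hQH'
    have h2 : Q.restrict hQH' = PH := by
      ext w
      exact hQH w w.2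
    rw [hQd, h2, ← hPd] at h1
    exact (mul_left_cancel₀ hPH0 h1).symm
  -- conjugating `Q` to `P`
  have hinj : Function.Injective (algebraMap F (End F (LinearMap.ker φ)) x - PH) := by
    rw [← hcp, LinearMap.eval_charpoly] at hx
    exact (LinearMap.equivOfDetNeZero _ hx).injective
  have hsurj := LinearMap.injective_iff_surjective.1 hinj
  obtain ⟨w, hw⟩ := hsurj ⟨P u - Q u, by rw [LinearMap.mem_ker, map_sub, hPu, hQu, sub_self]⟩
  have hw' : x • (w : V) - P w = P u - Q u := by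
    have h1 := congrArg Subtype.val hw
    rw [LinearMap.sub_apply, Module.algebraMap_end_apply] at h1
    exact h1
  let k := tr φ w w.2
  have hk : ∀ v, k v = v + φ v • (w : V) := fun v => rfl
  have hQv : ∀ v, Q v = P v + φ v • (Q u - P u) := by
    intro v
    have h1 := hQH (v - φ v • u) (by simp [hu])
    rw [map_sub, map_sub, map_smul, map_smul] at h1
    rw [smul_sub, ← sub_eq_zero]
    rw [← sub_eq_zero] at h1
    rw [← h1]
    abel
  have hφQ : ∀ v, φ (Q v) = x * φ v := by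
    intro v
    rw [hQv, map_add, map_smul, map_sub, hPu, hQu, sub_self, smul_zero, add_zero, hφ]
  have hkQ : ∀ v, k (Q v) = P (k v) := by
    intro v
    rw [hk, hk, hφQ, hQv, map_add, map_smul, add_assoc, mul_comm x, mul_smul, ← smul_add]
    congr 2
    rw [sub_eq_iff_eq_add] at hw'
    rw [hw']
    abel
  -- the conjugates
  let Z₁ : End F V := k.conj Z
  let Y₁ : End F V := k.conj Y
  have hZ₁ : ∀ v, Z₁ (k v) = k (Z v) := fun v => by
    show k (Z (k.symm (k v))) = _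
    rw [k.symm_apply_apply]
  have hY₁ : ∀ v, Y₁ (k v) = k (Y v) := fun v => by
    show k (Y (k.symm (k v))) = _
    rw [k.symm_apply_apply]
  have hZP : Z₁ * P = Y₁ := by
    ext v
    obtain ⟨v, rfl⟩ := k.surjective v
    rw [Module.End.mul_apply, ← hkQ, hZ₁, hY₁, ← Module.End.mul_apply, hZQ]
  have hsZ : Sim Z Z₁ := Sim.conj Z k
  have hsY : Sim Y Y₁ := Sim.conj Y k
  have hZ₁0 : LinearMap.det Z₁ ≠ 0 := by
    rw [← hsZ.det]
    exact hZ0
  have hsim : Sim (P * Z₁) Y₁ := by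
    refine ⟨LinearMap.equivOfDetNeZero Z₁ hZ₁0, fun v => ?_⟩
    show Z₁ ((P * Z₁) v) = Y₁ (Z₁ v)
    rw [← hZP]
    rfl
  have hc1 : Coc Z₁ := Coc.sim hsZ ⟨φ, hZ2⟩
  have hc2 : Coc (P * Z₁) := Coc.sim (hsY.trans hsim.symm) ⟨φ, hY2⟩
  have hcp1 : LinearMap.charpoly Z₁ = f := by rw [← hsZ.charpoly, hZ3]
  have hcp2 : LinearMap.charpoly (P * Z₁) = g := by rw [hsim.charpoly, ← hsY.charpoly, hY3]
  exact ⟨Z₁, hcp1, hcp2, hc1, hc2⟩

/-- the nonscalar case -/
theorem pencil_ns [Finite F] (hF : 4 ≤ Nat.card F) [FiniteDimensional F V] (hn : 2 ≤ finrank F V) {P : End F V}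
    (hP : NS P) (hP1 : LinearMap.det P = 1) {ν : F} {f p : F[X]} (hfm : f.Monic) (hfd : f.natDegree = finrank F V)
    (hf0 : f.coeff 0 ≠ 0) (hfp : f = (X - C ν) * p) (hν : p.eval ν ≠ 0) :
    ∃ Z : End F V, LinearMap.charpoly Z = f ∧ LinearMap.charpoly (P * Z) = f ∧ Coc Z ∧ Coc (P * Z) := by
  obtain ⟨T, hT, hTf⟩ := exists_coc (V := V) hfm hfd
  have hT0 : LinearMap.det T ≠ 0 := by
    rw [det_eq_charpoly, hTf]
    exact mul_ne_zero (by simp) hf0
  obtain ⟨T', h1, h2⟩ := exists_inv hT0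
  have hT' : Coc T' := by
    obtain ⟨φ, hφ⟩ := hT
    exact ⟨φ, hφ.inv h1⟩
  have hdT : LinearMap.det T * LinearMap.det T' = 1 := by rw [← map_mul, h1, map_one]
  obtain ⟨M, X', φ, h3, h4, h5, h6, h7⟩ := exists_fac' hF hn hP (M₀ := T) (X₀ := T') ⟨hT, p, by rw [hTf, hfp], hν⟩ hT'
    (by rw [hP1]; exact one_ne_zero) (by rw [hP1, hdT])
  have hX0 : LinearMap.det X' ≠ 0 := by
    rw [← h4.det]
    intro h
    rw [h, mul_zero] at hdT
    exact zero_ne_one hdT
  obtain ⟨Z, h8, h9⟩ := exists_inv hX0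
  have hPZ : P * Z = M := by rw [h5, mul_assoc, h8, mul_one]
  have hZs : Sim T Z := h4.inv h2 h9
  refine ⟨Z, by rw [← hZs.charpoly, hTf], by rw [hPZ, ← h3.charpoly, hTf], hT.sim hZs, by rw [hPZ]; exact hT.sim h3⟩

end

section

variable {F : Type*} [Field F] [Finite F] {ι : Type} [Fintype ι] [DecidableEq ι] {σ : F →+* F}

theorem nc_of (hσσ : ∀ a, σ (σ a) = a) {Z : Matrix ι ι F} {f : F[X]} (hZ : Z.charpoly = f) (hf0 : f.coeff 0 ≠ 0)
    (hfix : f.map σ = f) (hcop : IsCoprime f f.reverse) (hc : Coc (Matrix.toLin' Z)) : Nc σ Z := by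
  have hZ0 : Z.det ≠ 0 := by
    rw [Matrix.det_eq_sign_charpoly_coeff, hZ]
    exact mul_ne_zero (pow_ne_zero _ (neg_ne_zero.2 one_ne_zero)) hf0
  exact ⟨ad_of_coc hσσ hZ0 (by rw [hZ, hfix]) (CocM.of_coc hc), by rw [hZ, hfix], by rw [hZ]; exact hcop⟩

theorem exists_nc (hσσ : ∀ a, σ (σ a) = a) (hF : 4 ≤ Nat.card F) (P : Matrix ι ι F) (hP0 : P.det ≠ 0) {x : F} {p : F[X]}
    (hp : P.charpoly = (X - C x) * p) (hx : p.eval x ≠ 0) {f g : F[X]} (hfm : f.Monic)
    (hfd : f.natDegree = Fintype.card ι) (hgm : g.Monic) (hgd : g.natDegree = Fintype.card ι) (hf : f.map σ = f)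
    (hg : g.map σ = g) (hfc : IsCoprime f f.reverse) (hgc : IsCoprime g g.reverse) (hf0 : f.coeff 0 ≠ 0)
    (hfg : g.coeff 0 = P.det * f.coeff 0) : ∃ Z : Matrix ι ι F, Nc σ Z ∧ Nc σ (P * Z) := by
  have h1 : finrank F (ι → F) = Fintype.card ι := finrank_fintype_fun_eq_card F
  obtain ⟨Z, h2, h3, h4, h5⟩ := pencil (V := ι → F) (P := Matrix.toLin' P) hF (by rwa [LinearMap.det_toLin'])
    (x := x) (p := p) (by rw [Matrix.charpoly_toLin', hp]) hx hfm (by rw [hfd, h1]) hgm (by rw [hgd, h1]) hf0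
    (by rw [LinearMap.det_toLin', hfg])
  have hg0 : g.coeff 0 ≠ 0 := by rw [hfg]; exact mul_ne_zero hP0 hf0
  have e1 : Matrix.toLin' (LinearMap.toMatrix' Z) = Z := Matrix.toLin'_toMatrix' Z
  have e2 : Matrix.toLin' (P * LinearMap.toMatrix' Z) = Matrix.toLin' P * Z := by
    rw [Matrix.toLin'_mul, e1]; rfl
  refine ⟨LinearMap.toMatrix' Z, nc_of hσσ (f := f) ?_ hf0 hf hfc (by rw [e1]; exact h4),
    nc_of hσσ (f := g) ?_ hg0 hg hgc (by rw [e2]; exact h5)⟩
  · rw [← Matrix.charpoly_toLin', e1, h2]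
  · rw [← Matrix.charpoly_toLin', e2, h3]

theorem exists_nc_ns (hσσ : ∀ a, σ (σ a) = a) (hF : 4 ≤ Nat.card F) (hι : 2 ≤ Fintype.card ι) (P : Matrix ι ι F)
    (hP1 : P.det = 1) (hP : ∀ c : F, P ≠ c • (1 : Matrix ι ι F)) {ν : F} {f p : F[X]} (hfm : f.Monic)
    (hfd : f.natDegree = Fintype.card ι) (hf : f.map σ = f) (hfc : IsCoprime f f.reverse) (hf0 : f.coeff 0 ≠ 0)
    (hfp : f = (X - C ν) * p) (hν : p.eval ν ≠ 0) : ∃ Z : Matrix ι ι F, Nc σ Z ∧ Nc σ (P * Z) := by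
  have h1 : finrank F (ι → F) = Fintype.card ι := finrank_fintype_fun_eq_card F
  obtain ⟨Z, h2, h3, h4, h5⟩ := pencil_ns (V := ι → F) (P := Matrix.toLin' P) hF (by rw [h1]; exact hι)
    (fun c hc => hP c (by
      apply Matrix.toLin'.injective
      rw [hc, map_smul, Matrix.toLin'_one]; rfl)) (by rw [LinearMap.det_toLin', hP1])
    hfm (by rw [hfd, h1]) hf0 hfp hν
  have e1 : Matrix.toLin' (LinearMap.toMatrix' Z) = Z := Matrix.toLin'_toMatrix' Z
  have e2 : Matrix.toLin' (P * LinearMap.toMatrix' Z) = Matrix.toLin' P * Z := by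
    rw [Matrix.toLin'_mul, e1]; rfl
  refine ⟨LinearMap.toMatrix' Z, nc_of hσσ (f := f) ?_ hf0 hf hfc (by rw [e1]; exact h4),
    nc_of hσσ (f := f) ?_ hf0 hf hfc (by rw [e2]; exact h5)⟩
  · rw [← Matrix.charpoly_toLin', e1, h2]
  · rw [← Matrix.charpoly_toLin', e2, h3]

end

end Cfsg.Agent.H113.Inv
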