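import Mathlib
import Cfsg.Agent.H113.Inv.Pencil
import Cfsg.Agent.H113.Inv.Poly
import Cfsg.Agent.H98.Ore.Main

/-!
# Four involutions in `SU_n(q)`: all cases except the anisotropic rank one elements (S4171, helper113)
-/

set_option autoImplicit false
set_option linter.unusedSectionVars false

namespace Cfsg.Agent.H113.Inv

open Module Polynomial Cfsg.Agent.H951 Matrix Cfsg.Agent.H98.Ore Cfsg.Agent.H166.Cov Cfsg.Agent.H984.Ore

universe u v

variable {F : Type u} {V : Type v} [Field F] [Fintype F] [AddCommGroup V] [Module F V] [FiniteDimensional F V]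
  {q : ℕ} {σ : F →+* F} {B : V → V → F}

theorem four_le (hF : Fintype.card F = q ^ 2) : 4 ≤ Nat.card F := by
  have hq2 := LieClassical.HermBasic.two_le hF
  rw [Nat.card_eq_fintype_card, hF]
  nlinarith

theorem SR.one : SR B (1 : V ≃ₗ[F] V) :=
  ⟨1, one_mem _, 1, one_mem _, ⟨1, fun v => by rw [one_smul]; rfl⟩, ⟨1, fun v => by rw [one_smul]; rfl⟩, by rw [one_mul]⟩

theorem I4.scalar {g : V ≃ₗ[F] V} {c : F} (h : ∀ v, g v = c • v) : I4 B g :=
  ⟨1, 1, SR.one, SR.one, c, fun v => by rw [h, mul_one]; rfl⟩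

theorem I4.smul {g g' : V ≃ₗ[F] V} {c : F} (h : ∀ v, g v = c • g' v) (h' : I4 B g') : I4 B g := by
  obtain ⟨x, y, hx, hy, d, hd⟩ := h'
  exact ⟨x, y, hx, hy, c * d, fun v => by rw [h, hd, smul_smul]⟩

/-- the Good elements -/
theorem i4_good (hB : HS q σ B) (hn : 4 ≤ finrank F V) (hex : q = 2 → 6 ≤ finrank F V) {g : V ≃ₗ[F] V}
    (hg : g ∈ SGr B) (h : Good B (g : End F V)) : I4 B g := by
  obtain ⟨ι, hι1, hι2, P, hcard, hcor, hPd, x, p, hp, hpx⟩ := h
  have hq2 := LieClassical.HermBasic.two_le hB.card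
  obtain ⟨f, hf⟩ := exists_gen (m := Fintype.card ι) hB.card hB.sig hq2 (by omega) (fun h2 => by have := hex h2; omega)
  obtain ⟨Z, hZ, hY⟩ := exists_nc hB.ss (four_le hB.card) P (by rw [hPd]; exact one_ne_zero) hp hpx hf.monic hf.deg
    hf.monic hf.deg hf.fix hf.fix hf.cp hf.cp hf.c0 (by rw [hPd, one_mul])
  exact crit hB hg hcard hcor hZ hY

/-- elements with corner one -/
theorem i4_one (hB : HS q σ B) (hn : 4 ≤ finrank F V) (hex : q = 2 → 6 ≤ finrank F V) {g : V ≃ₗ[F] V}
    (hg : g ∈ SGr B) {ι : Type} [Fintype ι] [DecidableEq ι]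
    (hcard : finrank F V = 2 * Fintype.card ι ∨ finrank F V = 2 * Fintype.card ι + 1)
    (h : Cor B (g : End F V) (1 : Matrix ι ι F)) : I4 B g := by
  have hq2 := LieClassical.HermBasic.two_le hB.card
  obtain ⟨f, hf⟩ := exists_gen (m := Fintype.card ι) hB.card hB.sig hq2 (by omega) (fun h2 => by have := hex h2; omega)
  have h1 : finrank F (ι → F) = Fintype.card ι := finrank_fintype_fun_eq_card F
  obtain ⟨T, hT, hTf⟩ := exists_coc (V := ι → F) hf.monic (by rw [hf.deg, h1])
  have e1 : Matrix.toLin' (LinearMap.toMatrix' T) = T := Matrix.toLin'_toMatrix' T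
  have hZ : Nc σ (LinearMap.toMatrix' T) :=
    nc_of hB.ss (f := f) (by rw [← Matrix.charpoly_toLin', e1, hTf]) hf.c0 hf.fix hf.cp (by rw [e1]; exact hT)
  exact crit hB hg hcard h hZ (by rw [one_mul]; exact hZ)

/-- the corner of a rank one element -/
theorem rank_one_cor (hB : HS q σ B) (hn : 4 ≤ finrank F V) {g : End F V}
    (hg : Isom B g) (hdet : LinearMap.det g = 1) {c k : F} {e : V} (hc0 : c ≠ 0)
    (hgv : ∀ v, g v = c • v + (k * B v e) • e) (hns : ∀ c' : F, g ≠ c' • (1 : End F V)) {m : ℕ}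
    (hm : finrank F V = 2 * (m + 1) ∨ finrank F V = 2 * (m + 1) + 1) :
    Cor B g (Matrix.fromBlocks (Matrix.of fun (_ _ : Unit) => (c ^ m)⁻¹) 0 0 (Matrix.diagonal fun _ : Fin m => c)) := by
  obtain ⟨w, hw, hgw⟩ := Cfsg.Agent.H951.OreU.exists_typeI hB hg hns
  obtain ⟨U, g₁, b, h⟩ := Cfsg.Agent.H951.OreU.exists_step hB hg hw hgw
  obtain ⟨hU, hfr⟩ := Cfsg.Agent.H951.OreU.Step.hs hB hg h
  obtain ⟨rfl, rfl⟩ := step_rank_one hB hgv h
  have hm1 : 1 ≤ m := by omega
  have hU' := cor_scalar hU (c := c) (m := m) (by omega)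
  rcases hm with hm | hm
  · obtain ⟨i0, hi0, hi⟩ := LieClassical.HermBasic.exists_trace_zero_ne hB.card
    have hi' : σ i0 = -i0 := by
      rw [hB.sig]
      linear_combination hi
    obtain ⟨R, hR, hcor⟩ := Cfsg.Agent.H24.Ore.cor_step hB hg h hU' i0 hi'
    have hd : (Matrix.fromBlocks (Matrix.of fun (_ _ : Unit) => i0 * B (g w) w) R 0
        (Matrix.diagonal fun _ : Fin m => c)).det = i0 * B (g w) w * c ^ m := by
      rw [det_block, Matrix.det_diagonal, Finset.prod_const, Finset.card_univ, Fintype.card_fin]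
    have hd0 : i0 * B (g w) w * c ^ m ≠ 0 := mul_ne_zero (mul_ne_zero hi0 h.ne) (pow_ne_zero _ hc0)
    have h1 := cor_det hB hg (by
      rw [Fintype.card_sum, Fintype.card_unit, Fintype.card_fin]
      omega) hcor (by rw [hd]; exact hd0)
    rw [hd, hdet, one_mul] at h1
    obtain ⟨R', hR', hcor'⟩ := Cfsg.Agent.H24.Ore.cor_step hB hg h hU' (i0 * (i0 * B (g w) w * c ^ m)⁻¹) (by
      rw [map_mul, map_inv₀, ← h1, hi', neg_mul])
    rw [hR' rfl] at hcor'
    have h2 : i0 * (i0 * B (g w) w * c ^ m)⁻¹ * B (g w) w = (c ^ m)⁻¹ := by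
      have h3 := h.ne
      have h4 : c ^ m ≠ 0 := pow_ne_zero _ hc0
      field_simp
    rw [h2] at hcor'
    exact hcor'
  · obtain ⟨R, hR, hcor⟩ := Cfsg.Agent.H24.Ore.cor_step_odd hB hg h (κ := Fin m) (by rw [Fintype.card_fin]; omega) hU'
      (c ^ m)⁻¹
    rw [hR rfl ⟨c, rfl⟩] at hcor
    exact hcor

/-- the anisotropic rank one elements -/
def Aniso (F : Type u) [Field F] [Fintype F] (q : ℕ) (σ : F →+* F) : Prop :=
  ∀ {V : Type v} [AddCommGroup V] [Module F V] [FiniteDimensional F V] {B : V → V → F} (_ : HS q σ B) {M : ℕ}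
    (_ : 1 ≤ M) (_ : finrank F V = 2 * M + 1) {e : V} (_ : B e e ≠ 0) {c k : F} (_ : c ^ (q + 1) = 1)
    (_ : c ^ (2 * M) = 1) {g : V ≃ₗ[F] V} (_ : g ∈ SGr B) (_ : ∀ v, g v = c • v + (k * B v e) • e), I4 B g

theorem not_scalar_of (hn : 4 ≤ finrank F V) {g : End F V} {c : F}
    (hc : finrank F (LinearMap.range (g - c • (1 : End F V))) = 1) : ∀ c' : F, g ≠ c' • (1 : End F V) := by
  rintro c' rfl
  have h1 : c' • (1 : End F V) - c • (1 : End F V) = (c' - c) • (1 : End F V) := by rw [sub_smul]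
  rw [h1] at hc
  by_cases h2 : c' - c = 0
  · rw [h2, zero_smul, LinearMap.range_zero, finrank_bot] at hc
    omega
  · have h3 : LinearMap.range ((c' - c) • (1 : End F V)) = ⊤ := by
      rw [LinearMap.range_eq_top]
      intro v
      refine ⟨(c' - c)⁻¹ • v, ?_⟩
      rw [LinearMap.smul_apply, Module.End.one_apply, smul_smul, mul_inv_cancel₀ h2, one_smul]
    rw [h3, finrank_top] at hc
    omega

/-- rank one elements with `c = 1` -/
theorem i4_transv (hB : HS q σ B) (hn : 4 ≤ finrank F V) (hex : q = 2 → 6 ≤ finrank F V) {g : V ≃ₗ[F] V}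
    (hg : g ∈ SGr B) {k : F} {e : V} (hgv : ∀ v, g v = (1 : F) • v + (k * B v e) • e) : I4 B g := by
  by_cases hns : ∀ c' : F, (g : End F V) ≠ c' • (1 : End F V)
  · obtain ⟨m, hm⟩ : ∃ m, finrank F V = 2 * (m + 1) ∨ finrank F V = 2 * (m + 1) + 1 := ⟨finrank F V / 2 - 1, by omega⟩
    have hcor := rank_one_cor hB hn (g := (g : End F V)) (mem_SGr.1 hg).1 (mem_SGr.1 hg).2 one_ne_zero hgv hns hm
    have hP1 : Matrix.fromBlocks (Matrix.of fun (_ _ : Unit) => ((1 : F) ^ m)⁻¹) 0 0
        (Matrix.diagonal fun _ : Fin m => (1 : F)) = 1 := by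
      rw [one_pow, inv_one, Matrix.diagonal_one, ← Matrix.fromBlocks_one]
      congr 1
    rw [hP1] at hcor
    refine i4_one hB hn hex hg ?_ hcor
    rw [Fintype.card_sum, Fintype.card_unit, Fintype.card_fin]
    omega
  · push Not at hns
    obtain ⟨c', hc'⟩ := hns
    refine I4.scalar (c := c') fun v => ?_
    have := congrArg (fun f : End F V => f v) hc'
    exact this

theorem i4_rank_one (H : Aniso.{u, v} F q σ) (hB : HS q σ B) (hn : 4 ≤ finrank F V) (hex : q = 2 → 6 ≤ finrank F V)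
    {g : V ≃ₗ[F] V} (hgm : g ∈ SGr B) {c : F}
    (hc : finrank F (LinearMap.range ((g : End F V) - c • (1 : End F V))) = 1) : I4 B g := by
  have hg : Isom B (g : End F V) := (mem_SGr.1 hgm).1
  have hdet : LinearMap.det (g : End F V) = 1 := (mem_SGr.1 hgm).2
  obtain ⟨hcq, e, k, he, hk, hgv⟩ := Cfsg.Agent.H951.OreU.rank_one_form hB (by omega) hg hc
  have hc0 : c ≠ 0 := by
    rintro rfl
    rw [zero_pow (by omega)] at hcq
    exact zero_ne_one hcq
  have hns := not_scalar_of hn hc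
  have hdet' := det_rank_one hB hc0 (by omega) hgv
  rw [hdet] at hdet'
  obtain ⟨m, hm⟩ : ∃ m, finrank F V = 2 * (m + 1) ∨ finrank F V = 2 * (m + 1) + 1 :=
    ⟨finrank F V / 2 - 1, by omega⟩
  have hcor := rank_one_cor hB hn hg hdet hc0 hgv hns hm
  by_cases hcm : c ^ (m + 1) = 1
  · have hsmul : ∀ c' : F, c' * c = 1 → c ^ finrank F V = 1 → I4 B g := by
      intro c' hcc hcn
      -- the multiple `c⁻¹ g`
      have hc'0 : c' ≠ 0 := left_ne_zero_of_mul_eq_one hcc
      let g' : V ≃ₗ[F] V := g * LinearEquiv.smulOfNeZero F V c' hc'0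
      have hg' : ∀ v, g' v = c' • g v := fun v => by
        change g (c' • v) = _
        rw [map_smul]
      have hgg' : ∀ v, g v = c • g' v := fun v => by
        rw [hg', smul_smul, mul_comm, hcc, one_smul]
      have hN : c' * σ c' = 1 := by
        have h1 : c * σ c = 1 := by rw [hB.sig, ← pow_succ', hcq]
        have h2 : σ c' * σ c = 1 := by rw [← map_mul, hcc, map_one]
        calc c' * σ c' = (c' * c) * (σ c' * σ c) * (c' * σ c') := by rw [hcc, h2]; ring
          _ = (c' * c) * (σ c' * σ c) * (c * σ c) * (c' * σ c') := by rw [h1]; ring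
          _ = (c' * c) * (σ c' * σ c) * ((c' * c) * (σ c' * σ c)) := by ring
          _ = 1 := by rw [hcc, h2]; ring
      have hgm' : g' ∈ SGr B := by
        refine mem_SGr.2 ⟨fun u v => ?_, ?_⟩
        · rw [hg', hg', hB.smul_left, hB.smul_right, (mem_SGr.1 hgm).1, ← mul_assoc, hN, one_mul]
        · have h1 : (g' : V →ₗ[F] V) = c' • (g : V →ₗ[F] V) := by
            ext v
            exact hg' v
          have h2 : c' ^ finrank F V * c ^ finrank F V = 1 := by rw [← mul_pow, hcc, one_pow]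
          rw [h1, LinearMap.det_smul, (mem_SGr.1 hgm).2, mul_one]
          rwa [hcn, mul_one] at h2
      refine I4.smul hgg' (i4_transv hB hn hex hgm' (k := c' * k) (e := e) fun v => ?_)
      rw [hg', show g v = c • v + (k * B v e) • e from hgv v, smul_add, smul_smul, smul_smul, hcc, mul_assoc]
    have hc' : c⁻¹ * c = 1 := inv_mul_cancel₀ hc0
    rcases hm with hm | hm
    · refine hsmul c⁻¹ hc' ?_
      rw [hm, mul_comm, pow_mul, hcm, one_pow]
    · by_cases hee : B e e = 0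
      · refine hsmul c⁻¹ hc' ?_
        have h1 : finrank F V = (finrank F V - 1) + 1 := by omega
        rw [hee, mul_zero, add_zero] at hdet'
        rw [h1, pow_succ, ← hdet']
      · exact H hB (M := m + 1) (by omega) hm hee hcq (by rw [mul_comm, pow_mul, hcm, one_pow]) hgm hgv
  · -- a simple eigenvalue
    refine i4_good hB hn hex hgm ⟨Unit ⊕ Fin m, inferInstance, inferInstance, _, ?_, hcor, ?_, (c ^ m)⁻¹,
      (Matrix.diagonal fun _ : Fin m => c).charpoly, charpoly_block _ _ _, ?_⟩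
    · rw [Fintype.card_sum, Fintype.card_unit, Fintype.card_fin]
      omega
    · rw [det_block, Matrix.det_diagonal, Finset.prod_const, Finset.card_univ, Fintype.card_fin,
        inv_mul_cancel₀ (pow_ne_zero _ hc0)]
    · rw [Matrix.charpoly_diagonal, Finset.prod_const, Polynomial.eval_pow, Polynomial.eval_sub, Polynomial.eval_X,
        Polynomial.eval_C]
      apply pow_ne_zero
      intro h1
      apply hcm
      have h2 : (c ^ m)⁻¹ = c := sub_eq_zero.1 h1
      calc c ^ (m + 1) = c ^ m * c := pow_succ _ _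
        _ = c ^ m * (c ^ m)⁻¹ := by rw [h2]
        _ = 1 := mul_inv_cancel₀ (pow_ne_zero _ hc0)

/-- dimension three -/
theorem i4_three (hB : HS q σ B) (hq : 4 ≤ q) (hn : finrank F V = 3) {g : V ≃ₗ[F] V} (hgm : g ∈ SGr B)
    (hns : ∀ c : F, (g : End F V) ≠ c • (1 : End F V)) : I4 B g := by
  have hg : Isom B (g : End F V) := (mem_SGr.1 hgm).1
  obtain ⟨w, hw, hgw⟩ := Cfsg.Agent.H951.OreU.exists_typeI hB hg hns
  obtain ⟨U, g₁, b, h⟩ := Cfsg.Agent.H951.OreU.exists_step hB hg hw hgw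
  obtain ⟨hU, hfr⟩ := Cfsg.Agent.H951.OreU.Step.hs hB hg h
  obtain ⟨R, -, hR⟩ := Cfsg.Agent.H24.Ore.cor_step_odd hB hg h (κ := Empty) (P₁ := 0) (by rw [Fintype.card_empty]; omega)
    ⟨Empty.elim, Empty.elim, ⟨fun i => i.elim, fun i => i.elim, fun i => i.elim⟩, fun i => i.elim⟩ 1
  have hP : Matrix.fromBlocks (Matrix.of fun (_ _ : Unit) => (1 : F)) R 0 (0 : Matrix Empty Empty F) = 1 := by
    ext i j
    rcases i with i | i
    · rcases j with j | j
      · rw [Matrix.fromBlocks_apply₁₁, Subsingleton.elim j i, Matrix.one_apply_eq]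
        rfl
      · exact j.elim
    · exact i.elim
  rw [hP] at hR
  obtain ⟨a, ha0, ha1, ha2⟩ := exists_one hB.card hB.sig hq
  have hf := lin_pf ha0 ha1 ha2
  have h1 : finrank F (Unit ⊕ Empty → F) = 1 := by
    rw [finrank_fintype_fun_eq_card]; rfl
  obtain ⟨T, hT, hTf⟩ := exists_coc (V := Unit ⊕ Empty → F) hf.monic (by rw [hf.deg, h1])
  have e1 : Matrix.toLin' (LinearMap.toMatrix' T) = T := Matrix.toLin'_toMatrix' T
  have hZ : Nc σ (LinearMap.toMatrix' T) :=
    nc_of hB.ss (f := X - C a) (by rw [← Matrix.charpoly_toLin', e1, hTf]) hf.c0 hf.fix hf.cp (by rw [e1]; exact hT)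
  exact crit hB hgm (Or.inr (by rw [hn]; rfl)) hR hZ (by rw [one_mul]; exact hZ)

/-- **every element of `SU(V)`** -/
theorem i4_all (H : Aniso.{u, v} F q σ) (hB : HS q σ B) (hn : 3 ≤ finrank F V) (h3 : finrank F V = 3 → 4 ≤ q)
    (hex : q = 2 → 6 ≤ finrank F V) {g : V ≃ₗ[F] V} (hgm : g ∈ SGr B) : I4 B g := by
  have hq2 := LieClassical.HermBasic.two_le hB.card
  have hg : Isom B (g : End F V) := (mem_SGr.1 hgm).1
  have hdet : LinearMap.det (g : End F V) = 1 := (mem_SGr.1 hgm).2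
  by_cases hs : ∃ c : F, (g : End F V) = c • (1 : End F V)
  · obtain ⟨c, hc⟩ := hs
    refine I4.scalar (c := c) fun v => ?_
    have := congrArg (fun f : End F V => f v) hc
    exact this
  push Not at hs
  rcases Nat.lt_or_ge (finrank F V) 4 with h4 | h4
  · exact i4_three hB (h3 (by omega)) (by omega) hgm hs
  by_cases h1 : ∃ c : F, finrank F (LinearMap.range ((g : End F V) - c • (1 : End F V))) = 1
  · obtain ⟨c, hc⟩ := h1
    exact i4_rank_one H hB h4 hex hgm hc
  push Not at h1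
  have hr : ∀ c : F, 2 ≤ finrank F (LinearMap.range ((g : End F V) - c • (1 : End F V))) := by
    intro c
    by_contra hcon
    have h5 : finrank F (LinearMap.range ((g : End F V) - c • (1 : End F V))) = 0 := by
      have := h1 c
      omega
    have h6 := Submodule.finrank_eq_zero.1 h5
    rw [LinearMap.range_eq_bot, sub_eq_zero] at h6
    exact hs c h6
  apply i4_good hB h4 hex hgm
  obtain ⟨w, U, g₁, b, hst, h2 | ⟨h2, c, hc1, hc2⟩⟩ := Cfsg.Agent.H954.OreB.exists_good_step hB hg hdet h4 hr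
  · rcases Nat.even_or_odd' (finrank F V) with ⟨m, hm | hm⟩
    · exact Cfsg.Agent.H801.Ore.good_even hB hg hdet hm hst h2
    · exact Cfsg.Agent.H984.OreFinal.good_odd hB hg hm hst h2
  · exact good_four hB hg hdet h2 hst hc1 hc2

end Cfsg.Agent.H113.Inv
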