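import Mathlib
import Cfsg.Agent.H113.Inv.Main

/-!
# Four involutions in `SU_n(q)`: the anisotropic rank one elements (S4171, helper113)
-/

set_option autoImplicit false
set_option linter.unusedSectionVars false

namespace Cfsg.Agent.H113.Inv

open Module Polynomial Cfsg.Agent.H951 Matrix Cfsg.Agent.H98.Ore Cfsg.Agent.H951.OreU

universe u v

section model

variable {F : Type*} [Field F] {ι : Type*}

/-- monomial maps -/
def mono (π : Equiv.Perm ι) (γ : ι → F) : End F (ι → F) where
  toFun x := fun i => γ i * x (π i)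
  map_add' x y := by
    ext i
    simp only [Pi.add_apply, mul_add]
  map_smul' c x := by
    ext i
    simp only [Pi.smul_apply, smul_eq_mul, RingHom.id_apply]
    ring

theorem mono_apply (π : Equiv.Perm ι) (γ : ι → F) (x : ι → F) (i : ι) : mono π γ x i = γ i * x (π i) := rfl

theorem mono_sq {π : Equiv.Perm ι} {γ : ι → F} (hπ : ∀ i, π (π i) = i) (hγ : ∀ i, γ i * γ (π i) = 1) :
    mono π γ * mono π γ = 1 := by
  ext x i
  rw [Module.End.mul_apply, mono_apply, mono_apply, ← mul_assoc, hγ, hπ, one_mul]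
  rfl

theorem mono_isom [Fintype ι] {σ : F →+* F} {π : Equiv.Perm ι} {γ : ι → F} (hγ : ∀ i, γ i * σ (γ i) = 1) :
    Isom (Cfsg.Agent.H734.OreT5.mB σ 1) (mono π γ) := by
  intro x y
  unfold Cfsg.Agent.H734.OreT5.mB
  rw [← Equiv.sum_comp π (fun i => x i * σ (y ((1 : Equiv.Perm ι) i)))]
  refine Finset.sum_congr rfl fun i _ => ?_
  rw [mono_apply, Equiv.Perm.one_apply, Equiv.Perm.one_apply, mono_apply, map_mul]
  calc γ i * x (π i) * (σ (γ i) * σ (y (π i))) = (γ i * σ (γ i)) * (x (π i) * σ (y (π i))) := by ring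
    _ = x (π i) * σ (y (π i)) := by rw [hγ, one_mul]

end model

section scalar

variable {F : Type u} {V : Type v} [Field F] [Fintype F] [AddCommGroup V] [Module F V] [FiniteDimensional F V]
  {q : ℕ} {σ : F →+* F} {B : V → V → F}

/-- a scalar of determinant one on a space of even dimension is a product of four involutions of the unitary group -/
theorem four_scalar (hB : HS q σ B) {M : ℕ} (hM : 1 ≤ M) (hn : finrank F V = 2 * M) {c : F} (hc : c ^ (q + 1) = 1)
    (hcM : c ^ (2 * M) = 1) : ∃ T1 T2 T3 T4 : End F V, (Isom B T1 ∧ Isom B T2 ∧ Isom B T3 ∧ Isom B T4) ∧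
      (T1 * T1 = 1 ∧ T2 * T2 = 1 ∧ T3 * T3 = 1 ∧ T4 * T4 = 1) ∧ T1 * T2 * T3 * T4 = c • 1 := by
  classical
  have : NeZero M := ⟨by omega⟩
  have hc0 : c ≠ 0 := by
    rintro rfl
    rw [zero_pow (by omega)] at hc
    exact zero_ne_one hc
  have hN : c * σ c = 1 := by rw [hB.sig, ← pow_succ', hc]
  let ι := ZMod M × Bool
  -- the powers of `c ^ 2`
  set ζ := c ^ 2 with hζ
  have hζM : ζ ^ M = 1 := by rw [hζ, ← pow_mul, hcM]
  have hζ0 : ζ ≠ 0 := pow_ne_zero _ hc0
  let E : ZMod M → F := fun j => ζ ^ j.val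
  have hE : ∀ j, E (j + 1) = E j * ζ := by
    intro j
    change ζ ^ (j + 1).val = ζ ^ j.val * ζ
    rw [ZMod.val_add, ← pow_eq_pow_mod _ hζM, pow_add, ZMod.val_one_eq_one_mod, ← pow_eq_pow_mod _ hζM, pow_one]
  have hE0 : ∀ j, E j ≠ 0 := fun j => pow_ne_zero _ hζ0
  have hNζ : ζ * σ ζ = 1 := by rw [hζ, map_pow, ← mul_pow, hN, one_pow]
  have hNE : ∀ j, E j * σ (E j) = 1 := fun j => by
    change ζ ^ j.val * σ (ζ ^ j.val) = 1
    rw [map_pow, ← mul_pow, hNζ, one_pow]
  have hNinv : ∀ x : F, x * σ x = 1 → x⁻¹ * σ x⁻¹ = 1 := fun x hx => by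
    rw [map_inv₀, ← mul_inv, hx, inv_one]
  -- the permutations
  let A : Equiv.Perm ι := Function.Involutive.toPerm (fun p => (p.1, !p.2)) (fun p => by simp)
  let C : Equiv.Perm ι := Function.Involutive.toPerm (fun p => if p.2 then (p.1 + 1, false) else (p.1 - 1, true))
    (fun p => by rcases p with ⟨j, _ | _⟩ <;> simp)
  have hA : ∀ i, A (A i) = i := fun i => by
    change ((i.1, !!i.2) : ι) = i
    simp
  have hC : ∀ i, C (C i) = i := by
    rintro ⟨j, _ | _⟩
    · change C (j - 1, true) = _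
      change ((j - 1 + 1, false) : ι) = _
      rw [sub_add_cancel]
    · change C (j + 1, false) = _
      change ((j + 1 - 1, true) : ι) = _
      rw [add_sub_cancel_right]
  let α : ι → F := fun p => if p.2 then (E p.1)⁻¹ else E p.1
  let β : ι → F := fun p => if p.2 then c * E p.1 else c * (E p.1)⁻¹
  have hα : ∀ i, α i * α (A i) = 1 := by
    rintro ⟨j, _ | _⟩
    · change E j * (E j)⁻¹ = 1
      exact mul_inv_cancel₀ (hE0 j)
    · change (E j)⁻¹ * E j = 1
      exact inv_mul_cancel₀ (hE0 j)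
  have hβ : ∀ i, β i * β (C i) = 1 := by
    rintro ⟨j, _ | _⟩
    · change c * (E j)⁻¹ * (c * E (j - 1)) = 1
      have h1 := hE (j - 1)
      rw [sub_add_cancel] at h1
      rw [h1, mul_inv, hζ]
      have h2 := hE0 (j - 1)
      field_simp
    · change c * E j * (c * (E (j + 1))⁻¹) = 1
      rw [hE, mul_inv, hζ]
      have h2 := hE0 j
      field_simp
  have hαβ : ∀ i, α i * β i = c := by
    rintro ⟨j, _ | _⟩
    · change E j * (c * (E j)⁻¹) = c
      have h2 := hE0 j
      field_simp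
    · change (E j)⁻¹ * (c * E j) = c
      have h2 := hE0 j
      field_simp
  have hNα : ∀ i, α i * σ (α i) = 1 := by
    rintro ⟨j, _ | _⟩
    · exact hNE j
    · exact hNinv _ (hNE j)
  have hNβ : ∀ i, β i * σ (β i) = 1 := by
    have key : ∀ x : F, x * σ x = 1 → c * x * σ (c * x) = 1 := fun x hx => by
      rw [map_mul]
      calc c * x * (σ c * σ x) = (c * σ c) * (x * σ x) := by ring
        _ = 1 := by rw [hN, hx, one_mul]
    rintro ⟨j, _ | _⟩
    · exact key _ (hNinv _ (hNE j))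
    · exact key _ (hNE j)
  have hN1 : ∀ i : ι, (fun _ : ι => (1 : F)) i * σ ((fun _ : ι => (1 : F)) i) = 1 := fun i => by
    rw [map_one, one_mul]
  -- transfer
  have hm := Cfsg.Agent.H734.OreT5.mHS (ι := ι) hB.card hB.sig 1 (fun p => rfl)
  obtain ⟨e, he⟩ := Cfsg.Agent.H734.OreT5.exists_isometry hB hm (by
    rw [hn, Module.finrank_fintype_fun_eq_card, Fintype.card_prod, ZMod.card, Fintype.card_bool, mul_comm])
  have key : ∀ z : End F (ι → F), Isom (Cfsg.Agent.H734.OreT5.mB σ 1) z → Isom B (e.symm.conj z) := by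
    intro z hz u v
    rw [LinearEquiv.conj_apply_apply, LinearEquiv.conj_apply_apply, ← he, e.apply_symm_apply,
      e.apply_symm_apply, LinearEquiv.symm_symm, hz, he]
  have hmul : ∀ a b : End F (ι → F), e.symm.conj a * e.symm.conj b = e.symm.conj (a * b) := by
    intro a b
    ext v
    simp [LinearEquiv.conj_apply_apply]
  have hone : e.symm.conj (1 : End F (ι → F)) = 1 := by
    ext v
    simp [LinearEquiv.conj_apply_apply]
  refine ⟨e.symm.conj (mono A α), e.symm.conj (mono A fun _ => 1), e.symm.conj (mono C β), e.symm.conj (mono C fun _ => 1),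
    ⟨key _ (mono_isom hNα), key _ (mono_isom hN1), key _ (mono_isom hNβ), key _ (mono_isom hN1)⟩,
    ⟨by rw [hmul, mono_sq hA hα, hone], by rw [hmul, mono_sq hA fun _ => by rw [one_mul], hone],
      by rw [hmul, mono_sq hC hβ, hone], by rw [hmul, mono_sq hC fun _ => by rw [one_mul], hone]⟩, ?_⟩
  rw [hmul, hmul, hmul]
  have hfin : mono A α * mono A (fun _ => 1) * mono C β * mono C (fun _ => 1) = c • (1 : End F (ι → F)) := by
    apply LinearMap.ext
    intro x
    funext i
    rw [Module.End.mul_apply, Module.End.mul_apply, Module.End.mul_apply, mono_apply, mono_apply, mono_apply, mono_apply,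
      one_mul, one_mul, hA, hC, ← mul_assoc, hαβ]
    rfl
  rw [hfin, map_smul, hone]

theorem aniso {F : Type u} [Field F] [Fintype F] {q : ℕ} {σ : F →+* F} : Aniso.{u, v} F q σ := by
  intro V _ _ _ B hB M hM hn e hee c k hc hcM g hg hgv
  let U : Submodule F V := hB.frm.perp (Submodule.span F {e})
  have hU : ∀ v, v ∈ U ↔ B v e = 0 := by
    intro v
    constructor
    · intro h
      exact h e (Submodule.mem_span_singleton_self e)
    · intro h w hw
      obtain ⟨a, rfl⟩ := Submodule.mem_span_singleton.1 hw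
      rw [hB.frm.smul_right, h, mul_zero]
  have hfr := finrank_aniso hB hee hU
  have hfU : finrank F U = 2 * M := by omega
  have hcU : c ^ finrank F U = 1 := by rw [hfU, hcM]
  have hg1 : (g : End F V) = ext1 hB hee hU (c • (1 : End F U)) (c + k * B e e) := by
    apply eq_ext1
    · intro u
      change g u = _
      rw [hgv, (hU _).1 u.2, mul_zero, zero_smul, add_zero]
      rfl
    · change g e = _
      rw [hgv, add_smul]
  have h1 : c + k * B e e = 1 := by
    have h2 : LinearMap.det (g : End F V) = 1 := (mem_SGr.1 hg).2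
    rw [hg1, det_ext1, LinearMap.det_smul, hcU, map_one, one_mul, one_mul] at h2
    exact h2
  rw [h1] at hg1
  have hBU := hs_res_aniso hB hee hU
  obtain ⟨T1, T2, T3, T4, ⟨i1, i2, i3, i4⟩, ⟨s1, s2, s3, s4⟩, hT⟩ := four_scalar hBU hM hfU hc hcM
  -- the extensions
  have hext : ∀ T : End F U, Isom (res B U) T → T * T = 1 →
      ∃ t : V ≃ₗ[F] V, t ∈ SGr B ∧ (∀ v, t (t v) = v) ∧ (t : End F V) = ext1 hB hee hU T (LinearMap.det T) := by
    intro T hT hTT
    have hd : LinearMap.det T * LinearMap.det T = 1 := by rw [← map_mul, hTT, map_one]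
    have hi := isom_ext1 hB hee hU hT (Isom.det_norm hBU hT)
    refine ⟨LinearEquiv.ofInjectiveEndo _ (Isom.inj' hB hi), mem_SGr.2 ⟨hi, ?_⟩, fun v => ?_, ?_⟩
    · have h2 : ((LinearEquiv.ofInjectiveEndo _ (Isom.inj' hB hi) : V ≃ₗ[F] V) : V →ₗ[F] V) =
        ext1 hB hee hU T (LinearMap.det T) := by ext v; rfl
      rw [h2, det_ext1, hd]
    · change (ext1 hB hee hU T (LinearMap.det T)) ((ext1 hB hee hU T (LinearMap.det T)) v) = v
      rw [← Module.End.mul_apply, ext1_mul, hTT, hd]
      have h3 : ext1 hB hee hU (1 : End F U) 1 = 1 := by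
        symm
        apply eq_ext1
        · intro u; rfl
        · rw [one_smul]; rfl
      rw [h3]; rfl
    · ext v; rfl
  obtain ⟨t1, m1, r1, e1⟩ := hext T1 i1 s1
  obtain ⟨t2, m2, r2, e2⟩ := hext T2 i2 s2
  obtain ⟨t3, m3, r3, e3⟩ := hext T3 i3 s3
  obtain ⟨t4, m4, r4, e4⟩ := hext T4 i4 s4
  refine ⟨t1 * t2, t3 * t4, ⟨t1, m1, t2, m2, ⟨1, fun v => by rw [one_smul, r1]⟩, ⟨1, fun v => by rw [one_smul, r2]⟩, rfl⟩,
    ⟨t3, m3, t4, m4, ⟨1, fun v => by rw [one_smul, r3]⟩, ⟨1, fun v => by rw [one_smul, r4]⟩, rfl⟩, 1, fun v => ?_⟩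
  rw [one_smul]
  have h2 : (g : End F V) = (t1 : End F V) * t2 * t3 * t4 := by
    rw [hg1, e1, e2, e3, e4, ext1_mul, ext1_mul, ext1_mul, hT, ← map_mul, ← map_mul, ← map_mul, hT, LinearMap.det_smul,
      hcU, map_one, one_mul]
  exact congrArg (fun f : End F V => f v) h2

end scalar

end Cfsg.Agent.H113.Inv
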