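import Mathlib
import Cfsg.Agent.H113.Inv.Base

/-!
# The criterion (S4171, helper113)
-/

set_option autoImplicit false
set_option linter.unusedSectionVars false

namespace Cfsg.Agent.H113.Inv

open Module Polynomial Cfsg.Agent.H951 Matrix Cfsg.Agent.H98.Ore

variable {F V : Type*} [Field F] [Fintype F] [AddCommGroup V] [Module F V] [FiniteDimensional F V]
  {q : ℕ} {σ : F →+* F} {B : V → V → F} {ι : Type} [Fintype ι] [DecidableEq ι] {w w' : ι → V}

/-- `Z` is self-adjoint for a nondegenerate Hermitian form -/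
def Ad (σ : F →+* F) (Z : Matrix ι ι F) : Prop :=
  Z.det ≠ 0 ∧ σ Z.det = Z.det ∧ ∃ K : Matrix ι ι F, K.det ≠ 0 ∧ (∀ i j, σ (K j i) = K i j) ∧ K * Z = (Z.map σ)ᵀ * K

theorem comp_fr {a : V ≃ₗ[F] V} {u u' : ι → V} {X : Matrix ι ι F} (ha : ∀ j, a (u j) = ∑ i, X i j • u' i)
    (Y : Matrix ι ι F) (j : ι) : a (∑ i, Y i j • u i) = ∑ i, (X * Y) i j • u' i := by
  rw [map_sum]
  simp only [map_smul, ha, Finset.smul_sum, smul_smul]
  rw [Finset.sum_comm]
  simp only [← Finset.sum_smul]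
  refine Finset.sum_congr rfl fun i _ => ?_
  rw [Matrix.mul_apply]
  congr 1
  exact Finset.sum_congr rfl fun k _ => mul_comm _ _

theorem ist_eq (σ : F →+* F) (Z : Matrix ι ι F) : ist σ Z = ((Z.map σ)ᵀ)⁻¹ := by
  have h1 : ist σ Z = (σ.mapMatrix Z⁻¹)ᵀ := by ext i j; rfl
  rw [h1, ← Matrix.transpose_nonsing_inv]
  congr 1
  by_cases h : IsUnit Z.det
  · symm
    apply Matrix.inv_eq_left_inv
    change σ.mapMatrix Z⁻¹ * σ.mapMatrix Z = 1
    rw [← map_mul, Matrix.nonsing_inv_mul Z h, map_one]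
  · have h2 : ¬ IsUnit (Z.map σ).det := by
      have : (Z.map σ).det = σ Z.det := (RingHom.map_det σ Z).symm
      rw [this, isUnit_iff_ne_zero, not_not]
      rw [isUnit_iff_ne_zero, not_not] at h
      rw [h, map_zero]
    rw [Matrix.nonsing_inv_apply_not_isUnit _ h, Matrix.nonsing_inv_apply_not_isUnit _ h2, map_zero]

/-- **strong reality** -/
theorem sr_of_ad (hB : HS q σ B) {e : ℕ} (he : e ≤ 1) (hn : finrank F V = 2 * Fintype.card ι + e) (h : Fr B w w')
    {x : V ≃ₗ[F] V} (hx : x ∈ SGr B) {Z : Matrix ι ι F} (hxw : ∀ j, x (w j) = ∑ i, Z i j • w i)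
    (hxw' : ∀ j, x (w' j) = ∑ i, ist σ Z i j • w' i) (hZ : Ad σ Z) : SR B x := by
  obtain ⟨hZ0, -, K₀, hK₀, hK₀h, hK₀Z⟩ := hZ
  obtain ⟨ε, K, hεe, hε, hK0, hKh, hKZ⟩ : ∃ (ε : F) (K : Matrix ι ι F), (e = 0 ∧ ε = -1 ∨ e = 1 ∧ ε = 1) ∧ ε * ε = 1 ∧
      K.det ≠ 0 ∧ (∀ i j, σ (K j i) = ε * K i j) ∧ K * Z = (Z.map σ)ᵀ * K := by
    obtain h0 | h1 : e = 0 ∨ e = 1 := by omega
    · obtain ⟨c, hc, hc'⟩ := LieClassical.HermBasic.exists_trace_zero_ne hB.card
      have hcσ : σ c = -c := by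
        rw [hB.sig]; exact (neg_eq_of_add_eq_zero_right hc').symm
      refine ⟨-1, c • K₀, Or.inl ⟨h0, rfl⟩, by ring, ?_, fun i j => ?_, ?_⟩
      · rw [Matrix.det_smul]
        exact mul_ne_zero (pow_ne_zero _ hc) hK₀
      · rw [Matrix.smul_apply, Matrix.smul_apply, smul_eq_mul, smul_eq_mul, map_mul, hcσ, hK₀h]
        ring
      · rw [Matrix.smul_mul, hK₀Z, Matrix.mul_smul]
    · exact ⟨1, K₀, Or.inr ⟨h1, rfl⟩, by ring, hK₀, fun i j => by rw [hK₀h, one_mul], hK₀Z⟩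
  -- the matrices
  have hZs : (Z.map σ)ᵀ.det ≠ 0 := by
    rw [Matrix.det_transpose, show (Z.map σ).det = σ Z.det from (RingHom.map_det σ Z).symm]
    exact (map_ne_zero σ).2 hZ0
  have hKs : (K.map σ)ᵀ = ε • K := by
    ext i j
    rw [Matrix.transpose_apply, Matrix.map_apply, hKh, Matrix.smul_apply, smul_eq_mul]
  have hiK : ist σ K = ε • K⁻¹ := by
    rw [ist_eq, hKs]
    apply Matrix.inv_eq_left_inv
    rw [Matrix.smul_mul, Matrix.mul_smul, smul_smul, hε, one_smul, Matrix.nonsing_inv_mul K (isUnit_iff_ne_zero.2 hK0)]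
  have e1 : ist σ Z * (K * Z) = K := by
    rw [hKZ, ist_eq, ← Matrix.mul_assoc, Matrix.nonsing_inv_mul _ (isUnit_iff_ne_zero.2 hZs), Matrix.one_mul]
  have e2 : Z * (ist σ K * ist σ Z) = ist σ K := by
    have h1 : K⁻¹ * (Z.map σ)ᵀ = Z * K⁻¹ := by
      have h2 : K⁻¹ * (K * Z) * K⁻¹ = K⁻¹ * ((Z.map σ)ᵀ * K) * K⁻¹ := by rw [hKZ]
      rw [← Matrix.mul_assoc, Matrix.nonsing_inv_mul K (isUnit_iff_ne_zero.2 hK0), Matrix.one_mul, Matrix.mul_assoc,
        Matrix.mul_assoc, Matrix.mul_nonsing_inv K (isUnit_iff_ne_zero.2 hK0), Matrix.mul_one] at h2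
      exact h2.symm
    rw [hiK, ist_eq, Matrix.smul_mul, Matrix.mul_smul, ← Matrix.mul_assoc, ← h1, Matrix.mul_assoc,
      Matrix.mul_nonsing_inv _ (isUnit_iff_ne_zero.2 hZs), Matrix.mul_one]
  have e3 : ist σ K * K = ε • (1 : Matrix ι ι F) := by
    rw [hiK, Matrix.smul_mul, Matrix.nonsing_inv_mul K (isUnit_iff_ne_zero.2 hK0)]
  have e4 : K * ist σ K = ε • (1 : Matrix ι ι F) := by
    rw [hiK, Matrix.mul_smul, Matrix.mul_nonsing_inv K (isUnit_iff_ne_zero.2 hK0)]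
  -- the exchanging isometry
  obtain ⟨t₀, ht₀, htw, htw', htd⟩ := exists_isom hB he hn h ((h.swap hB).trans hB (ist_dual hB hK0))
  have htd1 : LinearMap.det t₀ = 1 := by
    rcases hεe with ⟨h0, hε1⟩ | ⟨h0, -⟩
    · subst h0
      rw [det_exch hB hn h htw htw', ← Matrix.det_mul, e3, hε1, Matrix.det_smul, Matrix.det_one, mul_one, ← mul_pow]
      norm_num
    · exact htd h0
  set t : V ≃ₗ[F] V := LinearEquiv.ofInjectiveEndo t₀ (Isom.inj' hB ht₀) with htdef
  have ht0 : (t : V →ₗ[F] V) = t₀ := by ext v; rfl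
  have htm : t ∈ SGr B := mem_SGr.2 ⟨ht₀, by rw [ht0, htd1]⟩
  have htw1 : ∀ j, t (w j) = ∑ i, K i j • w' i := htw
  have htw1' : ∀ j, t (w' j) = ∑ i, ist σ K i j • w i := htw'
  have htt : ∀ v, t (t v) = ε • v := by
    have h1 : ∀ j, t (t (w j)) = ε • w j := fun j => by
      rw [htw1, comp_fr htw1', e3]
      simp [Matrix.one_apply]
    have h2 : ∀ j, t (t (w' j)) = ε • w' j := fun j => by
      rw [htw1', comp_fr htw1, e4]
      simp [Matrix.one_apply]
    rcases hεe with ⟨h0, hε1⟩ | ⟨h0, hε1⟩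
    · subst h0
      intro v
      have hl := exists_FF_even hB h hn
      have h3 : v = ∑ i, B v (w' i) • w i + ∑ i, B v (w i) • w' i := by
        conv_lhs => rw [hl.expand hB v]
        simp
      conv_lhs => rw [h3]
      conv_rhs => rw [h3]
      simp only [map_add, map_sum, map_smul, h1, h2, smul_add, Finset.smul_sum]
      congr 1 <;> exact Finset.sum_congr rfl fun i _ => smul_comm _ _ _
    · have h3 : t * t = 1 := ext_frame hB he hn h (mul_mem htm htm) (one_mem _)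
        (fun j => by rw [LinearEquiv.mul_apply, h1, hε1, one_smul]; rfl)
        (fun j => by rw [LinearEquiv.mul_apply, h2, hε1, one_smul]; rfl)
      intro v
      rw [hε1, one_smul]
      exact congrArg (fun a : V ≃ₗ[F] V => a v) h3
  have hxtx : x * (t * x) = t := by
    refine ext_frame hB he hn h (mul_mem hx (mul_mem htm hx)) htm (fun j => ?_) fun j => ?_
    · rw [LinearEquiv.mul_apply, LinearEquiv.mul_apply, hxw, comp_fr htw1, comp_fr hxw', e1, htw1]
    · rw [LinearEquiv.mul_apply, LinearEquiv.mul_apply, hxw', comp_fr htw1', comp_fr hxw, e2, htw1']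
  have h4 : ∀ v, t⁻¹ (t v) = v := fun v => by rw [← LinearEquiv.mul_apply, inv_mul_cancel]; rfl
  refine ⟨t⁻¹, inv_mem htm, t * x, mul_mem htm hx, ⟨ε, fun v => ?_⟩, ⟨ε, fun v => ?_⟩, by group⟩
  · have h5 : v = t (t (ε • v)) := by rw [htt, smul_smul, hε, one_smul]
    conv_lhs => rw [h5, h4, h4]
  · have h6 : (t * x) ((t * x) v) = t ((x * (t * x)) v) := rfl
    rw [h6, hxtx, htt]

/-- the adjoint polynomial -/
theorem reverse_eval_one {f : F[X]} (hf : IsCoprime f f.reverse) : f.eval 1 ≠ 0 := by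
  intro h0
  obtain ⟨a, b, hab⟩ := hf
  let _ : Invertible (1 : F) := invertibleOne
  have h1 : f.reverse.eval 1 = 0 := by
    have h5 := eval₂_reverse_eq_zero_iff (RingHom.id F) (1 : F) f
    have h6 : (⅟(1 : F)) = 1 := invOf_one
    rw [h6, ← eval, ← eval] at h5
    exact h5.2 h0
  have h2 := congrArg (Polynomial.eval 1) hab
  rw [eval_add, eval_mul, eval_mul, h0, h1, mul_zero, mul_zero, add_zero, eval_one] at h2
  exact zero_ne_one h2

/-- `Z` can be used in the criterion -/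
structure Nc (σ : F →+* F) (Z : Matrix ι ι F) : Prop where
  ad : Ad σ Z
  fix : Z.charpoly.map σ = Z.charpoly
  cop : IsCoprime Z.charpoly Z.charpoly.reverse

theorem crit (hB : HS q σ B) {g : V ≃ₗ[F] V} (hgm : g ∈ SGr B)
    (hι : finrank F V = 2 * Fintype.card ι ∨ finrank F V = 2 * Fintype.card ι + 1) {P Z : Matrix ι ι F}
    (hP : Cor B (g : End F V) P) (hZ : Nc σ Z) (hY : Nc σ (P * Z)) : I4 B g := by
  obtain ⟨w, w', hw, hPw⟩ := hP
  obtain ⟨e, he, hn⟩ : ∃ e, e ≤ 1 ∧ finrank F V = 2 * Fintype.card ι + e := by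
    rcases hι with h3 | h3
    · exact ⟨0, by norm_num, by omega⟩
    · exact ⟨1, le_rfl, h3⟩
  have hg : ∀ u v, B (g u) (g v) = B u v := (mem_SGr.1 hgm).1
  have hZ0 : Z.det ≠ 0 := hZ.ad.1
  have hPZ0 : (P * Z).det ≠ 0 := hY.ad.1
  -- the frame for z
  have hfr : Fr B (fun j => ∑ i, Z i j • w i) (fun j => g⁻¹ (∑ i, ist σ (P * Z) i j • w' i)) := by
    have hGG : ∀ v, g (g⁻¹ v) = v := fun v => by
      rw [← LinearEquiv.mul_apply, mul_inv_cancel]; rfl
    refine ⟨fun i j => ?_, fun i j => ?_, fun i j => ?_⟩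
    · rw [sum_left' hB]
      simp only [sum_right' hB]
      simp [hw.ww]
    · rw [← hg, hGG, map_sum]
      simp only [map_smul]
      rw [sum_left' hB]
      have hPw' : ∀ i j, B (g (w j)) (w' i) = P i j := hPw
      simp only [sum_right' hB, hPw']
      rw [← ist_dual hB hPZ0 i j]
      simp only [Matrix.mul_apply, Finset.sum_mul, Finset.mul_sum]
      rw [Finset.sum_comm]
      refine Finset.sum_congr rfl fun k _ => Finset.sum_congr rfl fun m _ => ?_
      ring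
    · rw [← hg, hGG, hGG, sum_left' hB]
      simp only [sum_right' hB]
      simp [hw.ww']
  have hdet : ∀ {X : Matrix ι ι F}, Ad σ X → ∀ {x : End F V}, Isom B x → (∀ j, x (w j) = ∑ i, X i j • w i) →
      (e = 1 → LinearMap.det x = 1) → LinearMap.det x = 1 := by
    intro X hX x hx hxw hxd
    rcases Nat.le_one_iff_eq_zero_or_eq_one.1 he with h0 | h0
    · have h3 := det_even hB (by rw [hn, h0, add_zero]) hw hx hX.1 hxw
      rw [hX.2.1] at h3
      exact mul_right_cancel₀ hX.1 (by rw [h3, one_mul])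
    · exact hxd h0
  -- the isometries
  obtain ⟨z₀, hz, hzw, hzw', hzd⟩ := exists_isom hB he hn hw hfr
  obtain ⟨x₀, hx, hxw, hxw', hxd⟩ := exists_isom hB he hn hw (hw.trans hB (ist_dual hB hZ0))
  obtain ⟨y₀, hy, hyw, hyw', hyd⟩ := exists_isom hB he hn hw (hw.trans hB (ist_dual hB hPZ0))
  have hzd1 := hdet hZ.ad hz hzw hzd
  have hxd1 := hdet hZ.ad hx hxw hxd
  have hyd1 := hdet hY.ad hy hyw hyd
  set z : V ≃ₗ[F] V := LinearEquiv.ofInjectiveEndo z₀ (Isom.inj' hB hz) with hzdef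
  set x : V ≃ₗ[F] V := LinearEquiv.ofInjectiveEndo x₀ (Isom.inj' hB hx) with hxdef
  set y : V ≃ₗ[F] V := LinearEquiv.ofInjectiveEndo y₀ (Isom.inj' hB hy) with hydef
  have hz0 : (z : V →ₗ[F] V) = z₀ := by ext v; rfl
  have hx0 : (x : V →ₗ[F] V) = x₀ := by ext v; rfl
  have hy0 : (y : V →ₗ[F] V) = y₀ := by ext v; rfl
  have hzm : z ∈ SGr B := mem_SGr.2 ⟨hz, by rw [hz0, hzd1]⟩
  have hxm : x ∈ SGr B := mem_SGr.2 ⟨hx, by rw [hx0, hxd1]⟩
  have hym : y ∈ SGr B := mem_SGr.2 ⟨hy, by rw [hy0, hyd1]⟩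
  have hxw1 : ∀ j, x (w j) = ∑ i, Z i j • w i := hxw
  have hzw1 : ∀ j, z (w j) = ∑ i, Z i j • w i := hzw
  have hyw1 : ∀ j, y (w j) = ∑ i, (P * Z) i j • w i := hyw
  have hxw1' : ∀ j, x (w' j) = ∑ i, ist σ Z i j • w' i := hxw'
  have hyw1' : ∀ j, y (w' j) = ∑ i, ist σ (P * Z) i j • w' i := hyw'
  have hzw1' : ∀ j, z (w' j) = g⁻¹ (∑ i, ist σ (P * Z) i j • w' i) := hzw'
  have hfw : ∀ j, aeval (x : End F V) Z.charpoly (w j) = 0 := by
    intro j
    rw [aeval_frame (x := (x : End F V)) hxw1, Matrix.aeval_self_charpoly]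
    simp
  have hyfw : ∀ j, aeval (y : End F V) (P * Z).charpoly (w j) = 0 := by
    intro j
    rw [aeval_frame (x := (y : End F V)) hyw1, Matrix.aeval_self_charpoly]
    simp
  obtain ⟨u₁, hu₁, hzu⟩ := conj_same hB he hn hw hxm hzm hZ0 hxw1 hzw1 hfw (by rw [hZ.fix]; exact hZ.cop) (fun _ => by
    rw [hZ.ad.2.1, mul_inv_cancel₀ hZ0]
    exact reverse_eval_one hZ.cop)
  -- the second conjugation
  have hGz : ∀ j, (g * z) (w' j) = ∑ i, ist σ (P * Z) i j • w' i := by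
    intro j
    rw [LinearEquiv.mul_apply, hzw1', ← LinearEquiv.mul_apply, mul_inv_cancel]
    rfl
  have hcoeff : (P * Z).charpoly.coeff 0 ≠ 0 := by
    intro h0
    apply hPZ0
    rw [Matrix.det_eq_sign_charpoly_coeff, h0, mul_zero]
  have hyinv : (y : End F V) * ((y⁻¹ : V ≃ₗ[F] V) : End F V) = 1 := by
    ext v
    change y (y⁻¹ v) = v
    rw [← LinearEquiv.mul_apply, mul_inv_cancel]; rfl
  have hyinv' : ((y⁻¹ : V ≃ₗ[F] V) : End F V) * (y : End F V) = 1 := by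
    ext v
    change y⁻¹ (y v) = v
    rw [← LinearEquiv.mul_apply, inv_mul_cancel]; rfl
  have hyfw' : ∀ j, aeval (y : End F V) (P * Z).charpoly.reverse (w' j) = 0 := by
    intro j
    have h3 := aeval_frame (x := (y : End F V)) (w := w') hyw1' (P * Z).charpoly.reverse j
    rw [h3]
    apply Finset.sum_eq_zero
    intro i _
    have h4 : B (aeval (y : End F V) (P * Z).charpoly.reverse (w' j)) (w i) = 0 := by
      rw [B_aeval hB (x := (y : End F V)) hy hyinv]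
      have h5 := map_rev_map hB.ss (P * Z).charpoly
      rw [hY.fix] at h5
      rw [h5, aeval_reverse' hyinv', Module.End.mul_apply, hyfw, map_zero, hB.zero_right]
    rw [h3, sum_left' hB] at h4
    simp only [hw.dual' hB, mul_ite, mul_one, mul_zero, Finset.sum_ite_eq', Finset.mem_univ, if_true] at h4
    rw [h4, zero_smul]
  have hist0 : (ist σ (P * Z)).det ≠ 0 := by
    rw [det_ist, map_inv₀]
    exact inv_ne_zero ((map_ne_zero σ).2 hPZ0)
  have hcop' : IsCoprime (P * Z).charpoly.reverse ((P * Z).charpoly.reverse.map σ).reverse := by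
    have h5 := map_rev_map hB.ss (P * Z).charpoly
    rw [hY.fix] at h5
    rw [h5, reverse_reverse' hcoeff]
    exact hY.cop.symm
  obtain ⟨u₂, hu₂, hyu⟩ := conj_same hB he hn (hw.swap hB) hym (mul_mem hgm hzm) hist0 hyw1' hGz hyfw' hcop' (by
    intro _
    rw [det_ist, map_inv₀, hY.ad.2.1, map_inv₀, hY.ad.2.1, inv_inv, inv_mul_cancel₀ hPZ0]
    have h5 := map_rev_map hB.ss (P * Z).charpoly
    rw [hY.fix] at h5
    exact reverse_eval_one (by rw [h5] at hcop'; exact hcop'))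
  -- assemble
  have hsz : SR B z := by
    rw [hzu]
    exact (sr_of_ad hB he hn hw hxm hxw1 hxw1' hZ.ad).conj hB (mem_SGr.1 hu₁).1
  have hsy : SR B (g * z) := by
    rw [hyu]
    exact (sr_of_ad hB he hn hw hym hyw1 hyw1' hY.ad).conj hB (mem_SGr.1 hu₂).1
  refine ⟨g * z, z⁻¹, hsy, hsz.inv, 1, fun v => ?_⟩
  rw [one_smul, mul_inv_cancel_right]

end Cfsg.Agent.H113.Inv
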