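import Mathlib
import Cfsg.Agent.H113.Inv.Aniso
import Cfsg.Agent.H950.UHerm
import Cfsg.Agent.H146.Inv4.Base

/-!
# S4171: the unitary groups (helper113)

`w4_su` : every element of `SU_n(q)` is, modulo the centre, a product of four elements with central squares; `n ≥ 3`,
`(n, q)` not `(3, 2), (3, 3), (4, 2), (5, 2)`.
-/

set_option autoImplicit false
set_option linter.unusedSectionVars false

namespace Cfsg.Agent.H113.Inv

open Module Polynomial Cfsg Cfsg.Agent.H951 Matrix Cfsg.Agent.H98.Ore Cfsg.Agent.H146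

universe u

variable {F : Type u} [Field F] [Fintype F] {n q : ℕ}

/-- the linear map of an element of `SU_n(q)` -/
noncomputable def th (n : ℕ) (F : Type u) [Field F] (q : ℕ) : SU n F q →* ((Fin n → F) ≃ₗ[F] (Fin n → F)) :=
  (Matrix.SpecialLinearGroup.toLin').comp (SU n F q).subtype

theorem th_inj : Function.Injective (th n F q) := by
  intro a b h
  exact Subtype.ext (Matrix.SpecialLinearGroup.toLin'_injective h)

theorem th_coe (g : SU n F q) : ((th n F q g : (Fin n → F) ≃ₗ[F] (Fin n → F)) : End F (Fin n → F)) =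
    Matrix.toLin' ((g : Matrix.SpecialLinearGroup (Fin n) F) : Matrix (Fin n) (Fin n) F) := rfl

theorem th_mem (g : SU n F q) : th n F q g ∈ SGr (hermForm n F q) := by
  refine mem_SGr.2 ⟨Cfsg.Agent.H950.isom_of_SU g.2, ?_⟩
  rw [th_coe, LinearMap.det_toLin']
  exact g.1.2

theorem th_surj {s : (Fin n → F) ≃ₗ[F] (Fin n → F)} (hs : s ∈ SGr (hermForm n F q)) : ∃ g : SU n F q, th n F q g = s := by
  let y₀ : Matrix.SpecialLinearGroup (Fin n) F := ⟨LinearMap.toMatrix' (s : End F (Fin n → F)), by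
    rw [LinearMap.det_toMatrix']
    exact (mem_SGr.1 hs).2⟩
  have h1 : Matrix.toLin' (y₀ : Matrix (Fin n) (Fin n) F) = (s : End F (Fin n → F)) := Matrix.toLin'_toMatrix' _
  refine ⟨⟨y₀, Cfsg.Agent.H950.mem_SU_of_isom (by rw [h1]; exact (mem_SGr.1 hs).1)⟩, ?_⟩
  ext v : 1
  exact congrArg (fun f : End F (Fin n → F) => f v) h1

theorem mem_center_of {z : SU n F q} {c : F} (h : ∀ v, th n F q z v = c • v) : z ∈ Subgroup.center (SU n F q) := by
  rw [Subgroup.mem_center_iff]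
  intro g
  apply th_inj
  rw [map_mul, map_mul]
  ext v : 1
  rw [LinearEquiv.mul_apply, LinearEquiv.mul_apply, h, h, map_smul]

theorem hs_std (hF : Fintype.card F = q ^ 2) (n : ℕ) : HS q (Cfsg.Agent.H950.cj hF) (hermForm n F q) :=
  ⟨hF, Cfsg.Agent.H950.cj_apply hF, Cfsg.Agent.H950.frm_herm hF n,
    fun _ hu => Cfsg.Agent.LieClassical.HermBasic.herm_nondeg hF hu⟩

theorem w4_of_i4 {g : SU n F q} (h : I4 (hermForm n F q) (th n F q g)) :
    Inv4.W4 (Subgroup.center (SU n F q)) g := by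
  obtain ⟨x, y, ⟨s, hs, t, ht, ⟨c1, h1⟩, ⟨c2, h2⟩, rfl⟩, ⟨s', hs', t', ht', ⟨c3, h3⟩, ⟨c4, h4⟩, rfl⟩, c, hc⟩ := h
  obtain ⟨a, rfl⟩ := th_surj hs
  obtain ⟨b, rfl⟩ := th_surj ht
  obtain ⟨a', rfl⟩ := th_surj hs'
  obtain ⟨b', rfl⟩ := th_surj ht'
  have key : ∀ {x : SU n F q} {d : F}, (∀ v, th n F q x (th n F q x v) = d • v) → x * x ∈ Subgroup.center (SU n F q) := by
    intro x d hx
    exact mem_center_of (c := d) fun v => by rw [map_mul, LinearEquiv.mul_apply, hx]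
  refine ⟨a, b, a', b', (a * b * a' * b')⁻¹ * g, key h1, key h2, key h3, key h4, mem_center_of (c := c) fun v => ?_,
    by group⟩
  rw [map_mul, LinearEquiv.mul_apply, hc]
  have h5 : th n F q a * th n F q b * (th n F q a' * th n F q b') = th n F q (a * b * a' * b') := by
    simp only [map_mul, mul_assoc]
  rw [h5, map_smul, ← LinearEquiv.mul_apply, ← map_mul, inv_mul_cancel, map_one]
  rfl

/-- **every element of `SU_n(q)`** -/
theorem w4_su (hF : Fintype.card F = q ^ 2) (hn : 3 ≤ n) (h3 : n = 3 → 4 ≤ q) (h2 : q = 2 → 6 ≤ n) (g : SU n F q) :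
    Inv4.W4 (Subgroup.center (SU n F q)) g := by
  have hfr : finrank F (Fin n → F) = n := Module.finrank_fin_fun F
  exact w4_of_i4 (i4_all aniso (hs_std hF n) (by rw [hfr]; exact hn) (by rw [hfr]; exact h3) (by rw [hfr]; exact h2)
    (th_mem g))

/-- the groups `PSU_n(q)` except `PSU_3(3)`, `PSU_4(2)`, `PSU_5(2)` -/
theorem i4_psu_big (hF : Fintype.card F = q ^ 2) (hn : 3 ≤ n) (h3 : n = 3 → 4 ≤ q) (h2 : q = 2 → 6 ≤ n) :
    Inv4.I4 (PSU n F q) := Inv4.I4.quot (w4_su hF hn h3 h2)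

/-- the small groups -/
def Small : Prop := ∀ (F : Type) [Field F] [Fintype F] (n q : ℕ), Fintype.card F = q ^ 2 →
  (n = 3 ∧ q = 3 ∨ n = 4 ∧ q = 2 ∨ n = 5 ∧ q = 2) → Inv4.I4 (PSU n F q)

/-- **S4171, the unitary groups** (small groups as a hypothesis) -/
theorem i4_psu_of (H : Small) {G : Type*} [Group G] (h : IsPSU G) : Inv4.I4 G := by
  obtain ⟨F, i1, i2, n, q, hF, hn, hnq, ⟨e⟩⟩ := h
  have hq2 := LieClassical.HermBasic.two_le hF
  refine Inv4.I4.congr e.symm ?_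
  by_cases hs : n = 3 ∧ q = 3 ∨ n = 4 ∧ q = 2 ∨ n = 5 ∧ q = 2
  · exact H F n q hF hs
  · exact i4_psu_big hF hn (by omega) (by omega)

end Cfsg.Agent.H113.Inv
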