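import Mathlib
import Cfsg.Agent.H113.Inv.CritC
import Cfsg.Agent.H113.Inv.Psu

/-!
# `SU_4(2)` and `SU_5(2)` (S4171, helper113)
-/

set_option autoImplicit false
set_option linter.unusedSectionVars false

namespace Cfsg.Agent.H113.Inv

open Module Polynomial Cfsg Cfsg.Agent.H951 Matrix Cfsg.Agent.H98.Ore Cfsg.Agent.H146 Cfsg.Agent.H166.Cov
  Cfsg.Agent.H984.Ore

section two

variable {F : Type*} [Field F] {σ : F →+* F}

/-- a `2 × 2` matrix which is not a scalar is conjugate to its companion matrix -/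
theorem exists_comp [CharP F 2] {Z : Matrix (Fin 2) (Fin 2) F} (hd : Z.det = 1)
    (hns : ¬ (Z 0 1 = 0 ∧ Z 1 0 = 0 ∧ Z 0 0 = Z 1 1)) :
    ∃ S : Matrix (Fin 2) (Fin 2) F, IsUnit S.det ∧ Z * S = S * !![0, 1; 1, Z.trace] := by
  have h2 : (2 : F) = 0 := CharTwo.two_eq_zero
  rw [Matrix.det_fin_two] at hd
  rw [Matrix.trace_fin_two]
  by_cases hc : Z 1 0 = 0
  · by_cases hb : Z 0 1 = 0
    · have had : Z 0 0 ≠ Z 1 1 := fun h => hns ⟨hb, hc, h⟩
      refine ⟨!![1, Z 0 0; 1, Z 1 1], ?_, ?_⟩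
      · rw [Matrix.det_fin_two_of, isUnit_iff_ne_zero, one_mul, mul_one]
        exact fun h => had (sub_eq_zero.1 h).symm
      · ext i j
        fin_cases i <;> fin_cases j <;>
          simp [Matrix.mul_apply, Fin.sum_univ_two, hb, hc] <;>
          rw [hb, hc] at hd <;>
          linear_combination (-1 : F) * hd - h2
    · refine ⟨!![0, Z 0 1; 1, Z 1 1], ?_, ?_⟩
      · rw [Matrix.det_fin_two_of, isUnit_iff_ne_zero]
        intro h
        apply hb
        linear_combination -h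
      · ext i j
        fin_cases i <;> fin_cases j <;>
          simp [Matrix.mul_apply, Fin.sum_univ_two, hc] <;>
          rw [hc] at hd
        · ring
        · linear_combination (-1 : F) * hd - h2
  · refine ⟨!![1, Z 0 0; 0, Z 1 0], ?_, ?_⟩
    · rw [Matrix.det_fin_two_of, isUnit_iff_ne_zero]
      intro h
      apply hc
      linear_combination h
    · ext i j
      fin_cases i <;> fin_cases j <;>
        simp [Matrix.mul_apply, Fin.sum_univ_two]
      · linear_combination (-1 : F) * hd - h2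
      · ring

theorem rev_quad {F : Type*} [Field F] (a : F) : (X ^ 2 + C a * X + 1 : F[X]).reverse = 1 + C a * X + X ^ 2 := by
  have h : (X ^ 2 + C a * X + 1 : F[X]).natDegree = 2 := by compute_degree!
  rw [reverse, h, reflect_add, reflect_add, reflect_C_mul, reflect_monomial, reflect_X', reflect_one', revAt_le le_rfl,
    revAt_le (by norm_num), revAt_le (by norm_num)]
  norm_num

theorem iv_two [CharP F 2] {t : F} (ht0 : t ≠ 0) {Z : Matrix (Fin 2) (Fin 2) F} (hd : Z.det = 1) (htr : Z.trace = t) :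
    ∃ T : Matrix (Fin 2) (Fin 2) F, T * T = 1 ∧ T.det = 1 ∧ T * Z * (T * Z) = 1 := by
  have h2 : (2 : F) = 0 := CharTwo.two_eq_zero
  obtain ⟨S, hS, hZS⟩ := exists_comp hd (by
    rintro ⟨-, -, h⟩
    apply ht0
    rw [← htr, Matrix.trace_fin_two, h, CharTwo.add_self_eq_zero])
  rw [htr] at hZS
  set T₀ : Matrix (Fin 2) (Fin 2) F := !![0, 1; 1, 0] with hT₀
  have e1 : T₀ * T₀ = 1 := by
    ext i j
    fin_cases i <;> fin_cases j <;> simp [hT₀, Matrix.mul_apply, Fin.sum_univ_two]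
  have e2 : T₀ * !![0, 1; 1, t] * (T₀ * !![0, 1; 1, t]) = 1 := by
    ext i j
    fin_cases i <;> fin_cases j <;> simp [hT₀, Matrix.mul_apply, Fin.sum_univ_two]
    linear_combination t * h2
  have e3 : S * S⁻¹ = 1 := Matrix.mul_nonsing_inv S hS
  have e4 : S⁻¹ * S = 1 := Matrix.nonsing_inv_mul S hS
  have e5 : Z = S * !![0, 1; 1, t] * S⁻¹ := by
    rw [← hZS, Matrix.mul_assoc, e3, Matrix.mul_one]
  have key : ∀ A A' : Matrix (Fin 2) (Fin 2) F, S * A * S⁻¹ * (S * A' * S⁻¹) = S * (A * A') * S⁻¹ := by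
    intro A A'
    calc S * A * S⁻¹ * (S * A' * S⁻¹) = S * A * (S⁻¹ * S) * A' * S⁻¹ := by simp only [Matrix.mul_assoc]
      _ = S * (A * A') * S⁻¹ := by rw [e4, Matrix.mul_one]; simp only [Matrix.mul_assoc]
  refine ⟨S * T₀ * S⁻¹, ?_, ?_, ?_⟩
  · rw [key, e1, Matrix.mul_one, e3]
  · rw [Matrix.det_mul, Matrix.det_mul, mul_right_comm, ← Matrix.det_mul, e3, Matrix.det_one, one_mul, hT₀,
      Matrix.det_fin_two_of]
    linear_combination -h2
  · rw [e5, key, key, e2, Matrix.mul_one, e3]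

theorem nd_two [CharP F 2] {t : F} (ht : t ^ 2 + t + 1 = 0) (hσ : σ t = t + 1) {Z : Matrix (Fin 2) (Fin 2) F}
    (hd : Z.det = 1) (htr : Z.trace = t) : Nd σ Z := by
  have h2 : (2 : F) = 0 := CharTwo.two_eq_zero
  have ht0 : t ≠ 0 := by
    rintro rfl
    apply one_ne_zero (α := F)
    linear_combination ht
  have hcp : Z.charpoly = X ^ 2 + C t * X + 1 := by
    rw [Matrix.charpoly_fin_two, htr, hd, C_1]
    have h3 : (2 : F[X]) = 0 := by
      have h4 := map_ofNat (C : F →+* F[X]) 2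
      rw [← h4, h2, C_0]
    linear_combination (-C t * X) * h3
  have h3 : (2 : F[X]) = 0 := by
    have h4 := map_ofNat (C : F →+* F[X]) 2
    rw [← h4, h2, C_0]
  refine ⟨hd, ?_, ?_, iv_two ht0 hd htr⟩
  · have h5 : (Z.charpoly.map σ).reverse = 1 + C (t + 1) * X + X ^ 2 := by
      rw [hcp, ← rev_quad, ← hσ]
      simp
    rw [h5, hcp, C_add, C_1]
    exact ⟨1 - (X + C t), -(X + C t), by linear_combination (-(X + C t) * (C t * X + 1 + X ^ 2)) * h3⟩
  · rw [hcp]
    simp only [eval_add, eval_mul, eval_pow, eval_X, eval_C, eval_one, mul_one, one_pow]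
    intro h
    apply ht0
    linear_combination h - h2

/-- the lemma on `SL_2(4)` -/
theorem sl_two [CharP F 2] {t₀ : F} (ht₀ : t₀ ^ 2 + t₀ + 1 = 0) (hσ : ∀ t : F, t ^ 2 + t + 1 = 0 → σ t = t + 1)
    (hF : ∀ x : F, x = 0 ∨ x = 1 ∨ x ^ 2 + x + 1 = 0) {P : Matrix (Fin 2) (Fin 2) F} (hP : P.det = 1) :
    ∃ Z : Matrix (Fin 2) (Fin 2) F, Nd σ Z ∧ Nd σ (P * Z) := by
  have h2 : (2 : F) = 0 := CharTwo.two_eq_zero
  by_cases hs : P 0 1 = 0 ∧ P 1 0 = 0 ∧ P 0 0 = P 1 1
  · obtain ⟨h01, h10, h00⟩ := hs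
    have h11 : P 1 1 = 1 := by
      rw [Matrix.det_fin_two, h01, h00, zero_mul, sub_zero] at hP
      have h3 : (P 1 1 + 1) ^ 2 = 0 := by linear_combination hP + (P 1 1 + 1) * h2
      have h4 := pow_eq_zero_iff (two_ne_zero) |>.1 h3
      linear_combination h4 - h2
    have hP1 : P = 1 := by
      ext i j
      fin_cases i <;> fin_cases j <;> simp [h01, h10, h00, h11]
    have h3 : Nd σ !![0, 1; 1, t₀] := by
      refine nd_two ht₀ (hσ _ ht₀) ?_ ?_
      · rw [Matrix.det_fin_two_of]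
        linear_combination -h2
      · rw [Matrix.trace_fin_two_of, zero_add]
    exact ⟨_, h3, by rw [hP1, Matrix.one_mul]; exact h3⟩
  · obtain ⟨S, hS, hPS⟩ := exists_comp hP hs
    set p := P.trace with hp
    have e3 : S * S⁻¹ = 1 := Matrix.mul_nonsing_inv S hS
    have e4 : S⁻¹ * S = 1 := Matrix.nonsing_inv_mul S hS
    have e5 : P = S * !![0, 1; 1, p] * S⁻¹ := by
      rw [← hPS, Matrix.mul_assoc, e3, Matrix.mul_one]
    have key : ∀ A A' : Matrix (Fin 2) (Fin 2) F, S * A * S⁻¹ * (S * A' * S⁻¹) = S * (A * A') * S⁻¹ := by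
      intro A A'
      calc S * A * S⁻¹ * (S * A' * S⁻¹) = S * A * (S⁻¹ * S) * A' * S⁻¹ := by simp only [Matrix.mul_assoc]
        _ = S * (A * A') * S⁻¹ := by rw [e4, Matrix.mul_one]; simp only [Matrix.mul_assoc]
    have htr : ∀ A : Matrix (Fin 2) (Fin 2) F, (S * A * S⁻¹).trace = A.trace := by
      intro A
      rw [Matrix.trace_mul_comm, ← Matrix.mul_assoc, e4, Matrix.one_mul]
    have hdt : ∀ A : Matrix (Fin 2) (Fin 2) F, (S * A * S⁻¹).det = A.det := by
      intro A
      rw [Matrix.det_mul, Matrix.det_mul, mul_right_comm, ← Matrix.det_mul, e3, Matrix.det_one, one_mul]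
    obtain ⟨t, b, c, ht, hbc, hu⟩ : ∃ t b c : F, t ^ 2 + t + 1 = 0 ∧ b * c = t ∧
        (b + c + p) ^ 2 + (b + c + p) + 1 = 0 := by
      rcases hF p with h0 | h0 | h0
      · exact ⟨t₀, 1, t₀, ht₀, one_mul _, by rw [h0]; linear_combination ht₀ + (1 + t₀) * h2⟩
      · exact ⟨t₀, 1, t₀, ht₀, one_mul _, by rw [h0]; linear_combination ht₀ + (3 + 2 * t₀) * h2⟩
      · refine ⟨p, p + 1, p + 1, h0, by linear_combination h0, ?_⟩
        linear_combination h0 + (4 * p ^ 2 + 7 * p + 3) * h2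
    refine ⟨S * !![1 + t, b; c, 1] * S⁻¹, ?_, ?_⟩
    · refine nd_two ht (hσ _ ht) ?_ ?_
      · rw [hdt, Matrix.det_fin_two_of]
        linear_combination -hbc
      · rw [htr, Matrix.trace_fin_two_of]
        linear_combination h2
    · have h3 : P * (S * !![1 + t, b; c, 1] * S⁻¹) = S * (!![0, 1; 1, p] * !![1 + t, b; c, 1]) * S⁻¹ := by
        conv_lhs => rw [e5]
        rw [key]
      rw [h3]
      refine nd_two hu (hσ _ hu) ?_ ?_
      · rw [hdt, Matrix.det_mul, Matrix.det_fin_two_of, Matrix.det_fin_two_of]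
        linear_combination hbc - h2
      · rw [htr, Matrix.trace_fin_two]
        simp [Matrix.mul_apply, Fin.sum_univ_two]
        ring

theorem nd_reindex {ι κ : Type} [Fintype ι] [DecidableEq ι] [Fintype κ] [DecidableEq κ] (e : κ ≃ ι)
    {Z : Matrix κ κ F} (h : Nd σ Z) : Nd σ (Matrix.reindexAlgEquiv F F e Z) := by
  have hc : (Matrix.reindexAlgEquiv F F e Z).charpoly = Z.charpoly := by
    rw [Matrix.coe_reindexAlgEquiv, Matrix.charpoly_reindex]
  refine ⟨by rw [Matrix.det_reindexAlgEquiv]; exact h.d, by rw [hc]; exact h.cop, by rw [hc]; exact h.ev, ?_⟩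
  obtain ⟨T, h1, h2, h3⟩ := h.iv
  refine ⟨Matrix.reindexAlgEquiv F F e T, ?_, ?_, ?_⟩
  · rw [← map_mul, h1, map_one]
  · rw [Matrix.det_reindexAlgEquiv, h2]
  · rw [← map_mul, ← map_mul, h3, map_one]

theorem exists_nd [CharP F 2] {t₀ : F} (ht₀ : t₀ ^ 2 + t₀ + 1 = 0) (hσ : ∀ t : F, t ^ 2 + t + 1 = 0 → σ t = t + 1)
    (hF : ∀ x : F, x = 0 ∨ x = 1 ∨ x ^ 2 + x + 1 = 0) {ι : Type} [Fintype ι] [DecidableEq ι] (hι : Fintype.card ι = 2)
    {P : Matrix ι ι F} (hP : P.det = 1) : ∃ Z : Matrix ι ι F, Nd σ Z ∧ Nd σ (P * Z) := by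
  obtain ⟨e⟩ : Nonempty (Fin 2 ≃ ι) := ⟨(Fintype.equivFinOfCardEq hι).symm⟩
  obtain ⟨Z, h1, h2⟩ := sl_two (σ := σ) ht₀ hσ hF (P := (Matrix.reindexAlgEquiv F F e).symm P) (by
    rw [Matrix.symm_reindexAlgEquiv, Matrix.det_reindexAlgEquiv, hP])
  refine ⟨Matrix.reindexAlgEquiv F F e Z, nd_reindex e h1, ?_⟩
  have h3 := nd_reindex e h2
  rwa [map_mul, AlgEquiv.apply_symm_apply] at h3

end two

section main

variable {F V : Type*} [Field F] [Fintype F] [AddCommGroup V] [Module F V] [FiniteDimensional F V]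
  {σ : F →+* F} {B : V → V → F}

open Classical in
theorem field_four (hF : Fintype.card F = 2 ^ 2) (hσ : ∀ a : F, σ a = a ^ 2) : CharP F 2 ∧ (∃ t : F, t ^ 2 + t + 1 = 0) ∧
    (∀ t : F, t ^ 2 + t + 1 = 0 → σ t = t + 1) ∧ ∀ x : F, x = 0 ∨ x = 1 ∨ x ^ 2 + x + 1 = 0 := by
  have hc : CharP F 2 := by
    have h1 : (Fintype.card F : F) = 0 := Nat.cast_card_eq_zero F
    rw [hF] at h1
    have h2 : (2 : F) = 0 := by
      have h3 : (2 : F) ^ 2 = 0 := by
        have : ((2 ^ 2 : ℕ) : F) = (2 : F) ^ 2 := by norm_num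
        rwa [this] at h1
      exact pow_eq_zero_iff (two_ne_zero) |>.1 h3
    exact CharTwo.of_one_ne_zero_of_two_eq_zero one_ne_zero h2
  have h2 : (2 : F) = 0 := CharTwo.two_eq_zero
  have hx : ∀ x : F, x = 0 ∨ x = 1 ∨ x ^ 2 + x + 1 = 0 := by
    intro x
    have h3 := FiniteField.pow_card x
    rw [hF] at h3
    have h4 : x * (x - 1) * (x ^ 2 + x + 1) = 0 := by linear_combination h3
    rcases mul_eq_zero.1 h4 with h5 | h5
    · rcases mul_eq_zero.1 h5 with h6 | h6
      · exact Or.inl h6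
      · exact Or.inr (Or.inl (sub_eq_zero.1 h6))
    · exact Or.inr (Or.inr h5)
  refine ⟨hc, ?_, fun t ht => ?_, hx⟩
  · by_contra hcon
    push Not at hcon
    have h3 : Function.Injective (fun x : F => decide (x = 0)) := by
      intro x y hxy
      have h4 : x = 0 ↔ y = 0 := by simpa using hxy
      rcases hx x with h | h | h
      · rw [h, h4.1 h]
      · rcases hx y with h' | h' | h'
        · rw [h', h4.2 h']
        · rw [h, h']
        · exact absurd h' (hcon y)
      · exact absurd h (hcon x)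
    have h5 := Fintype.card_le_of_injective _ h3
    rw [hF, Fintype.card_bool] at h5
    omega
  · rw [hσ]
    linear_combination ht - (t + 1) * h2

/-- the groups `SU_4(2)`, `SU_5(2)` -/
theorem i4_two (hB : HS 2 σ B) (hn : finrank F V = 4 ∨ finrank F V = 5) {g : V ≃ₗ[F] V} (hgm : g ∈ SGr B) : I4 B g := by
  have hg : Isom B (g : End F V) := (mem_SGr.1 hgm).1
  have hdet : LinearMap.det (g : End F V) = 1 := (mem_SGr.1 hgm).2
  have hn4 : 4 ≤ finrank F V := by omega
  obtain ⟨hc2, ⟨t₀, ht₀⟩, hσ, hF⟩ := field_four hB.card hB.sig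
  -- a corner of determinant one suffices
  have key : ∀ {ι : Type} [Fintype ι] [DecidableEq ι] {P : Matrix ι ι F},
      (finrank F V = 2 * Fintype.card ι ∨ finrank F V = 2 * Fintype.card ι + 1) → Cor B (g : End F V) P → P.det = 1 →
      I4 B g := by
    intro ι _ _ P hι hP hPd
    obtain ⟨Z, h1, h2⟩ := exists_nd (σ := σ) ht₀ hσ hF (ι := ι) (by omega) hPd
    exact crit' hB hgm hι hP h1 h2
  by_cases hs : ∃ c : F, (g : End F V) = c • (1 : End F V)
  · obtain ⟨c, hc⟩ := hs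
    refine I4.scalar (c := c) fun v => ?_
    have := congrArg (fun f : End F V => f v) hc
    exact this
  push Not at hs
  by_cases h1 : ∃ c : F, finrank F (LinearMap.range ((g : End F V) - c • (1 : End F V))) = 1
  · obtain ⟨c, hc⟩ := h1
    obtain ⟨hcq, e, k, he, hk, hgv⟩ := Cfsg.Agent.H951.OreU.rank_one_form hB (by omega) hg hc
    have hc0 : c ≠ 0 := by
      rintro rfl
      rw [zero_pow (by omega)] at hcq
      exact zero_ne_one hcq
    have hm : finrank F V = 2 * (1 + 1) ∨ finrank F V = 2 * (1 + 1) + 1 := by omega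
    have hcor := rank_one_cor hB hn4 hg hdet hc0 hgv hs hm
    refine key ?_ hcor ?_
    · rw [Fintype.card_sum, Fintype.card_unit, Fintype.card_fin]
      omega
    · rw [det_block, Matrix.det_diagonal, Finset.prod_const, Finset.card_univ, Fintype.card_fin,
        inv_mul_cancel₀ (pow_ne_zero _ hc0)]
  push Not at h1
  have hr : ∀ c : F, 2 ≤ finrank F (LinearMap.range ((g : End F V) - c • (1 : End F V))) := by
    intro c
    by_contra hcon
    have h5 : finrank F (LinearMap.range ((g : End F V) - c • (1 : End F V))) = 0 := by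
      have := h1 c
      omega
    have h6 := Submodule.finrank_eq_zero.1 h5
    rw [LinearMap.range_eq_bot, sub_eq_zero] at h6
    exact hs c h6
  have hgood : Good B (g : End F V) := by
    obtain ⟨w, U, g₁, b, hst, h2 | ⟨h2, c, hc1, hc2⟩⟩ := Cfsg.Agent.H954.OreB.exists_good_step hB hg hdet hn4 hr
    · rcases Nat.even_or_odd' (finrank F V) with ⟨m, hm | hm⟩
      · exact Cfsg.Agent.H801.Ore.good_even hB hg hdet hm hst h2
      · exact Cfsg.Agent.H984.OreFinal.good_odd hB hg hm hst h2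
    · exact good_four hB hg hdet h2 hst hc1 hc2
  obtain ⟨ι, hι1, hι2, P, hcard, hcor, hPd, -⟩ := hgood
  exact key hcard hcor hPd

end main

/-- **`PSU_4(2)` and `PSU_5(2)`** -/
theorem i4_psu_two {F : Type*} [Field F] [Fintype F] (hF : Fintype.card F = 2 ^ 2) {n : ℕ} (hn : n = 4 ∨ n = 5) :
    Inv4.I4 (PSU n F 2) := by
  refine Inv4.I4.quot fun g => ?_
  have hfr : finrank F (Fin n → F) = n := Module.finrank_fin_fun F
  exact w4_of_i4 (i4_two (hs_std hF n) (by rw [hfr]; exact hn) (th_mem g))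

end Cfsg.Agent.H113.Inv
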