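import Mathlib
import Cfsg.Agent.H113.Inv.U33Data
import Cfsg.Agent.H113.Inv.FourTwo
import Cfsg.Agent.LieClassical.FieldTransfer
import Cfsg.Agent.LieClassical.GUOrder

/-!
# `SU_3(3)` (S4171, helper113)
-/

set_option autoImplicit false
set_option linter.unusedSectionVars false

namespace Cfsg.Agent.H113.Inv.U33

open Module Cfsg Cfsg.Agent.H951 Matrix Cfsg.Agent.H98.Ore Cfsg.Agent.H146
open Cfsg.Agent.ChevalleyStructure.NineField
open Cfsg.Agent.LieClassical.GUOrder (frob frob_apply mul_map_eq_one_iff)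

abbrev M3 : Type := Matrix (Fin 3) (Fin 3) F9

theorem card9 : Fintype.card F9 = 3 ^ 2 := F9.card_F9

theorem fb_eq (a : F9) : frob card9 a = fb a := by
  rw [frob_apply, fb]
  ring

theorem fb_zero : fb 0 = 0 := by unfold fb; ring

theorem fb_inv (a : F9) : fb a⁻¹ = (fb a)⁻¹ := by
  rw [← fb_eq, ← fb_eq, map_inv₀]

/-- the Gram matrix -/
def J : M3 := Matrix.of fun i j => if i.val + j.val = 2 then 1 else 0

theorem gram_entry (M : M3) (i j : Fin 3) : (Mᵀ * J * M.map (frob card9)) i j =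
    M 0 i * fb (M 2 j) + M 1 i * fb (M 1 j) + M 2 i * fb (M 0 j) := by
  simp only [Matrix.mul_apply, Fin.sum_univ_three, Matrix.transpose_apply, Matrix.map_apply, fb_eq, J, Matrix.of_apply]
  simp
  ring

/-- the unitary group of the second form -/
structure UJ (M : M3) : Prop where
  gram : ∀ i j, M 0 i * fb (M 2 j) + M 1 i * fb (M 1 j) + M 2 i * fb (M 0 j) = if i.val + j.val = 2 then 1 else 0
  det : M.det = 1

theorem UJ.eq {M : M3} (h : UJ M) : Mᵀ * J * M.map (frob card9) = J := by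
  ext1 i
  intro j
  rw [gram_entry, h.gram]
  rfl

theorem UJ.mk' {M : M3} (h : Mᵀ * J * M.map (frob card9) = J) (hd : M.det = 1) : UJ M :=
  ⟨fun i j => by rw [← gram_entry, h]; rfl, hd⟩

/-- the elements of the big cell -/
theorem UJ.cell {M : M3} (h : UJ M) (h0 : M 0 0 = 0) (h1 : M 1 0 = 0) :
    ∃ l x y : F9, l ≠ 0 ∧ cnd l x y ∧ M = Matrix.of (bn l x y) := by
  have e02 := h.gram 0 2
  have e20 := h.gram 2 0
  have e10 := h.gram 1 0
  have e11 := h.gram 1 1
  have e21 := h.gram 2 1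
  have e22 := h.gram 2 2
  have hd := h.det
  rw [Matrix.det_fin_three] at hd
  simp only [h0, h1, fb_zero, zero_mul, mul_zero, zero_add, add_zero, sub_zero] at e02 e20 e10 e11 e21 e22 hd
  set l := M 2 0 with hl
  have e02' : l * fb (M 0 2) = 1 := by simpa using e02
  have e20' : M 0 2 * fb l = 1 := by simpa using e20
  have hl0 : l ≠ 0 := by
    intro hl0
    rw [hl0, zero_mul] at e02'
    exact zero_ne_one e02'
  have hfl : fb l ≠ 0 := by
    intro hf
    rw [hf, mul_zero] at e20'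
    exact zero_ne_one e20'
  have m02 : M 0 2 = (fb l)⁻¹ := eq_inv_of_mul_eq_one_left e20'
  have m01 : M 0 1 = 0 := by
    have h3 : M 0 1 * fb l = 0 := by simpa using e10
    exact (mul_eq_zero.1 h3).resolve_right hfl
  have m11 : M 1 1 = -(fb l * l⁻¹) := by
    rw [m01, m02] at hd
    have h3 : -((fb l)⁻¹ * M 1 1 * l) = 1 := by linear_combination hd
    field_simp at h3
    field_simp
    linear_combination -h3
  have e11' : M 1 1 * fb (M 1 1) = 1 := by
    have := e11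
    rw [m01, fb_zero] at this
    simpa using this
  have e21' : (fb l)⁻¹ * fb (M 2 1) + M 1 2 * fb (M 1 1) = 0 := by
    have := e21
    rw [m01, fb_zero, m02] at this
    simpa using this
  have m12 : M 1 2 = fb (M 2 1) * l⁻¹ := by
    have h3 : M 1 2 = -((fb l)⁻¹ * fb (M 2 1)) * M 1 1 := by
      linear_combination M 1 1 * e21' - M 1 2 * e11'
    rw [h3, m11]
    field_simp
  refine ⟨l, M 2 1, M 2 2, hl0, ?_, ?_⟩
  · have h3 : M 0 2 * fb (M 2 2) + M 1 2 * fb (M 1 2) + M 2 2 * fb (M 0 2) = 0 := by simpa using e22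
    rw [m02, m12] at h3
    exact h3
  · ext1 i
    intro j
    fin_cases i <;> fin_cases j
    · exact h0
    · exact m01
    · exact m02
    · exact h1
    · exact m11
    · exact m12
    · rfl
    · rfl
    · rfl

theorem iv_uj {k : ℕ} (hk : k < 63) : UJ (Matrix.of (iv k)) ∧ (Matrix.of (iv k) : M3) * Matrix.of (iv k) = 1 := by
  have h := ivc_all ⟨k, hk⟩
  rw [ivc, Bool.and_eq_true, decide_eq_true_eq, decide_eq_true_eq] at h
  refine ⟨⟨fun i j => (h.1 i j).2, ?_⟩, ?_⟩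
  · rw [Matrix.det_fin_three]
    exact h.2
  · rw [← mm_eq]
    ext1 i
    intro j
    rw [Matrix.of_apply, (h.1 i j).1, Matrix.one_apply]

theorem four {M : M3} (h : UJ M) (h0 : M 0 0 = 0) (h1 : M 1 0 = 0) :
    ∃ a b c d : M3, (UJ a ∧ a * a = 1) ∧ (UJ b ∧ b * b = 1) ∧ (UJ c ∧ c * c = 1) ∧ (UJ d ∧ d * d = 1) ∧
      M = a * b * c * d := by
  obtain ⟨l, x, y, hl, hc, rfl⟩ := h.cell h0 h1
  have h2 := chk_all l x y hl hc
  rw [chk, Bool.and_eq_true, decide_eq_true_eq, decide_eq_true_eq] at h2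
  obtain ⟨⟨k0, k1, k2, k3⟩, h3⟩ := h2
  have h4 : (Matrix.of (iv (wt l x y 1)) : M3) * (Matrix.of (iv (wt l x y 0)) * Matrix.of (bn l x y)) =
      Matrix.of (iv (wt l x y 2)) * Matrix.of (iv (wt l x y 3)) := by
    rw [← mm_eq, ← mm_eq, ← mm_eq]
    ext1 i
    intro j
    exact h3 i j
  refine ⟨_, _, _, _, iv_uj k0, iv_uj k1, iv_uj k2, iv_uj k3, ?_⟩
  rw [Matrix.mul_assoc (Matrix.of (iv (wt l x y 0)) * Matrix.of (iv (wt l x y 1))), ← h4]
  simp only [Matrix.mul_assoc]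
  rw [← Matrix.mul_assoc (Matrix.of (iv (wt l x y 1))) (Matrix.of (iv (wt l x y 1))), (iv_uj k1).2, Matrix.one_mul,
    ← Matrix.mul_assoc, (iv_uj k0).2, Matrix.one_mul]

/-- elements of `SU_3(3)` from matrices -/
theorem exists_su {M : M3} (hM : Mᵀ * M.map (frob card9) = 1) (hd : M.det = 1) :
    ∃ s : SU 3 F9 3, ((s : Matrix.SpecialLinearGroup (Fin 3) F9) : M3) = M :=
  ⟨⟨⟨M, hd⟩, (mul_map_eq_one_iff card9 M).2 hM⟩, rfl⟩

theorem su_ext {x y : SU 3 F9 3} (h : ((x : Matrix.SpecialLinearGroup (Fin 3) F9) : M3) =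
    ((y : Matrix.SpecialLinearGroup (Fin 3) F9) : M3)) : x = y := Subtype.ext (Subtype.ext h)

theorem w4_33 (g : SU 3 F9 3) : Inv4.W4 (Subgroup.center (SU 3 F9 3)) g := by
  by_cases hs : ∃ c : F9, (th 3 F9 3 g : End F9 (Fin 3 → F9)) = c • (1 : End F9 (Fin 3 → F9))
  · obtain ⟨c, hc⟩ := hs
    exact Inv4.W4.of_mem (mem_center_of (c := c) fun v => congrArg (fun f : End F9 (Fin 3 → F9) => f v) hc)
  push Not at hs
  have hB := hs_std card9 3
  have hg : Isom (hermForm 3 F9 3) (th 3 F9 3 g : End F9 (Fin 3 → F9)) := (mem_SGr.1 (th_mem g)).1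
  obtain ⟨w, hw, hgw⟩ := Cfsg.Agent.H951.OreU.exists_typeI hB hg hs
  set G : M3 := ((g : Matrix.SpecialLinearGroup (Fin 3) F9) : M3) with hG
  have hGw : (th 3 F9 3 g : End F9 (Fin 3 → F9)) w = G *ᵥ w := rfl
  have hGG : Gᵀ * G.map (frob card9) = 1 := (mul_map_eq_one_iff card9 G).1 g.2
  have hGd : G.det = 1 := g.1.2
  set u := G *ᵥ w with hu
  rw [hGw] at hgw
  set c := hermForm 3 F9 3 u w with hc
  have hBu : hermForm 3 F9 3 u u = 0 := by
    have := hg w w
    rw [hw] at this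
    exact this
  have hwu : hermForm 3 F9 3 w u = Cfsg.Agent.H950.cj card9 c := hB.symm u w
  set e₃ : Fin 3 → F9 := c⁻¹ • u with he₃
  have hwe : hermForm 3 F9 3 w e₃ = 1 := by
    rw [he₃, hB.smul_right, hwu, map_inv₀, inv_mul_cancel₀ ((map_ne_zero _).2 hgw)]
  have hee : hermForm 3 F9 3 e₃ e₃ = 0 := by
    rw [he₃, hB.smul_right, hB.smul_left, hBu, mul_zero, mul_zero]
  have hfr : Fr (hermForm 3 F9 3) (fun _ : Unit => w) (fun _ : Unit => e₃) :=
    ⟨fun _ _ => hw, fun i j => by rw [if_pos (Subsingleton.elim i j)]; exact hwe, fun _ _ => hee⟩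
  obtain ⟨l, hl⟩ := exists_FF_odd hB hfr (by rw [Module.finrank_fin_fun]; rfl)
  have hll : hermForm 3 F9 3 (l 0) (l 0) = 1 := by rw [hl.ll, if_pos rfl]
  have hlw : hermForm 3 F9 3 (l 0) w = 0 := hl.lw 0 ()
  have hle : hermForm 3 F9 3 (l 0) e₃ = 0 := hl.lw' 0 ()
  have hwl : hermForm 3 F9 3 w (l 0) = 0 := by rw [hB.symm, hlw, map_zero]
  have hel : hermForm 3 F9 3 e₃ (l 0) = 0 := by rw [hB.symm, hle, map_zero]
  have hew : hermForm 3 F9 3 e₃ w = 1 := by rw [hB.symm, hwe, map_one]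
  -- the transition matrix
  set P : M3 := Matrix.of fun i j => (![w, l 0, e₃] : Fin 3 → Fin 3 → F9) j i with hP
  have hPP : Pᵀ * P.map (frob card9) = J := by
    ext1 j
    intro k
    have h1 : (Pᵀ * P.map (frob card9)) j k =
        hermForm 3 F9 3 ((![w, l 0, e₃] : Fin 3 → Fin 3 → F9) j) ((![w, l 0, e₃] : Fin 3 → Fin 3 → F9) k) := by
      rw [Matrix.mul_apply, hermForm]
      rfl
    rw [h1]
    fin_cases j <;> fin_cases k
    · exact hw
    · exact hwl
    · exact hwe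
    · exact hlw
    · exact hll
    · exact hle
    · exact hew
    · exact hel
    · exact hee
  have hJd : J.det ≠ 0 := by
    rw [Matrix.det_fin_three]
    simp [J]
  have hPd : P.det ≠ 0 := by
    intro h0
    apply hJd
    rw [← hPP, Matrix.det_mul, Matrix.det_transpose, h0, zero_mul]
  have hPu : IsUnit P.det := isUnit_iff_ne_zero.2 hPd
  have p1 : P * P⁻¹ = 1 := Matrix.mul_nonsing_inv P hPu
  have p2 : P⁻¹ * P = 1 := Matrix.nonsing_inv_mul P hPu
  set A : M3 := P⁻¹ * (G * P) with hA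
  have hPA : P * A = G * P := by rw [hA, ← Matrix.mul_assoc, p1, Matrix.one_mul]
  have hAU : UJ A := by
    refine UJ.mk' ?_ ?_
    · have h1 : (P * A)ᵀ * (P * A).map (frob card9) = Aᵀ * J * A.map (frob card9) := by
        rw [Matrix.transpose_mul, Matrix.map_mul, ← hPP]
        simp only [Matrix.mul_assoc]
      rw [← h1, hPA, Matrix.transpose_mul, Matrix.map_mul]
      calc Pᵀ * Gᵀ * (G.map (frob card9) * P.map (frob card9)) = Pᵀ * (Gᵀ * G.map (frob card9)) * P.map (frob card9) := by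
            simp only [Matrix.mul_assoc]
        _ = J := by rw [hGG, Matrix.mul_one, hPP]
    · rw [hA, Matrix.det_mul, Matrix.det_mul, hGd, one_mul, ← Matrix.det_mul, p2, Matrix.det_one]
  have hcol : ∀ i, A i 0 = (![0, 0, c] : Fin 3 → F9) i := by
    intro i
    have h1 : (fun i => A i 0) = P⁻¹ *ᵥ (fun k => (G * P) k 0) := by
      funext i
      rw [hA, Matrix.mul_apply]
      rfl
    have h2 : (fun k => (G * P) k 0) = u := by
      funext k
      rw [Matrix.mul_apply, hu]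
      rfl
    have h3 : u = P *ᵥ ![0, 0, c] := by
      funext k
      rw [Matrix.mulVec, dotProduct, Fin.sum_univ_three]
      have h4 : P k 2 = c⁻¹ * u k := rfl
      rw [h4]
      simp only [Matrix.cons_val_zero, Matrix.cons_val_one, Matrix.cons_val, mul_zero, zero_add]
      rw [mul_comm, ← mul_assoc, mul_inv_cancel₀ hgw, one_mul]
    have h5 := congrFun h1 i
    rw [h2, h3, Matrix.mulVec_mulVec, p2, Matrix.one_mulVec] at h5
    exact h5
  obtain ⟨a, b, c', d, ⟨ha, ha2⟩, ⟨hb, hb2⟩, ⟨hc', hc2⟩, ⟨hd, hd2⟩, hAe⟩ := four hAU (hcol 0) (hcol 1)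
  -- back to `SU`
  have key : ∀ {s : M3}, UJ s → s * s = 1 → ∃ t : SU 3 F9 3,
      ((t : Matrix.SpecialLinearGroup (Fin 3) F9) : M3) = P * s * P⁻¹ ∧ t * t ∈ Subgroup.center (SU 3 F9 3) := by
    intro s hs hs2
    have hσp : P.map (frob card9) * (P⁻¹).map (frob card9) = 1 := by
      rw [← Matrix.map_mul, p1, Matrix.map_one _ (map_zero _) (map_one _)]
    have hpt : (P⁻¹)ᵀ * Pᵀ = 1 := by rw [← Matrix.transpose_mul, p1, Matrix.transpose_one]
    obtain ⟨t, ht⟩ := exists_su (M := P * s * P⁻¹) (by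
      rw [Matrix.transpose_mul, Matrix.transpose_mul, Matrix.map_mul, Matrix.map_mul]
      calc (P⁻¹)ᵀ * (sᵀ * Pᵀ) * (P.map (frob card9) * s.map (frob card9) * (P⁻¹).map (frob card9))
          = (P⁻¹)ᵀ * (sᵀ * (Pᵀ * P.map (frob card9)) * s.map (frob card9)) * (P⁻¹).map (frob card9) := by
            simp only [Matrix.mul_assoc]
        _ = (P⁻¹)ᵀ * (Pᵀ * P.map (frob card9)) * (P⁻¹).map (frob card9) := by rw [hPP, hs.eq]
        _ = ((P⁻¹)ᵀ * Pᵀ) * (P.map (frob card9) * (P⁻¹).map (frob card9)) := by simp only [Matrix.mul_assoc]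
        _ = 1 := by rw [hpt, hσp, Matrix.one_mul]) (by
      rw [Matrix.det_mul, Matrix.det_mul, hs.det, mul_one, ← Matrix.det_mul, p1, Matrix.det_one])
    refine ⟨t, ht, ?_⟩
    have h1 : t * t = 1 := by
      apply su_ext
      change ((t : Matrix.SpecialLinearGroup (Fin 3) F9) : M3) * ((t : Matrix.SpecialLinearGroup (Fin 3) F9) : M3) = 1
      rw [ht]
      calc P * s * P⁻¹ * (P * s * P⁻¹) = P * (s * (P⁻¹ * P) * s) * P⁻¹ := by simp only [Matrix.mul_assoc]
        _ = 1 := by rw [p2, Matrix.mul_one, hs2, Matrix.mul_one, p1]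
    rw [h1]
    exact one_mem _
  obtain ⟨t1, h1, z1⟩ := key ha ha2
  obtain ⟨t2, h2, z2⟩ := key hb hb2
  obtain ⟨t3, h3, z3⟩ := key hc' hc2
  obtain ⟨t4, h4, z4⟩ := key hd hd2
  have hfin : g = t1 * t2 * t3 * t4 := by
    apply su_ext
    change G = ((t1 : Matrix.SpecialLinearGroup (Fin 3) F9) : M3) * ((t2 : Matrix.SpecialLinearGroup (Fin 3) F9) : M3) *
      ((t3 : Matrix.SpecialLinearGroup (Fin 3) F9) : M3) * ((t4 : Matrix.SpecialLinearGroup (Fin 3) F9) : M3)
    rw [h1, h2, h3, h4]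
    calc G = G * P * P⁻¹ := by rw [Matrix.mul_assoc, p1, Matrix.mul_one]
      _ = P * (a * b * c' * d) * P⁻¹ := by rw [← hPA, hAe]
      _ = P * (a * 1 * b * 1 * c' * 1 * d) * P⁻¹ := by simp only [Matrix.mul_one]
      _ = P * (a * (P⁻¹ * P) * b * (P⁻¹ * P) * c' * (P⁻¹ * P) * d) * P⁻¹ := by rw [p2]
      _ = P * a * P⁻¹ * (P * b * P⁻¹) * (P * c' * P⁻¹) * (P * d * P⁻¹) := by simp only [Matrix.mul_assoc]
  rw [hfin]
  exact Inv4.W4.intro z1 z2 z3 z4

/-- **`PSU_3(3)`** -/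
theorem i4_psu_three {F : Type*} [Field F] [Fintype F] (hF : Fintype.card F = 3 ^ 2) : Inv4.I4 (PSU 3 F 3) := by
  have e : F9 ≃+* F := FiniteField.ringEquivOfCardEq (by rw [card9, hF])
  exact Inv4.I4.congr (Cfsg.Agent.LieClassical.FieldTransfer.psuCongr 3 3 e) (Inv4.I4.quot w4_33)

/-- **S4171, the unitary groups** -/
theorem small : Small := by
  rintro F _ _ n q hF (⟨rfl, rfl⟩ | ⟨rfl, rfl⟩ | ⟨rfl, rfl⟩)
  · exact i4_psu_three hF
  · exact i4_psu_two hF (Or.inl rfl)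
  · exact i4_psu_two hF (Or.inr rfl)

end Cfsg.Agent.H113.Inv.U33

namespace Cfsg.Agent.H113.Inv

/-- **S4171, the unitary groups** -/
theorem i4_psu {G : Type*} [Group G] (h : Cfsg.IsPSU G) : Cfsg.Agent.H146.Inv4.I4 G := i4_psu_of U33.small h

end Cfsg.Agent.H113.Inv
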